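import Cfsg.Agent.SporB.Suz.Main
import Cfsg.Agent.T51.SuzMult.H.Cert
import Cfsg.Agent.T51.SuzMult.G.Cert

/-!
# The Suzuki presentation with two relators weakened to central ones

The two relators `(abcf)^5` and `(bfg)^5` are only required to be central; the group obtained has
order at most three times that of `Suz`.
-/

set_option autoImplicit false
set_option maxRecDepth 100000

namespace Cfsg.Agent.T51.SuzMult

open Cfsg.Spor Cfsg.Agent.CosetEnum

/-- `[U, x]` as a word in involutions. -/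
def comWord (U : List ℕ) (x : ℕ) : List ℕ := U ++ [x] ++ U.reverse ++ [x]

/-- The relator `((bcdcd)^5 e)^3`. -/
def pWord : List ℕ := repWord (repWord [1, 2, 3, 2, 3] 5 ++ [4]) 3

/-- The words of the weakened presentation. -/
def wordsU : List (List ℕ) :=
  [[0, 3, 2, 3, 2, 3, 2, 3, 2], [0, 6, 5, 6, 5], pWord] ++
    (List.range 7).map (comWord (repWord [0, 1, 2, 5] 5)) ++
    (List.range 7).map (comWord (repWord [1, 5, 6] 5))

/-- A word as an element of the free group. -/
def freeWord (W : List ℕ) : FreeGroup Cfsg.Spor.Suz.Gen :=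
  evalWord (letterVal Suz.genList FreeGroup.of) W

theorem lift_freeWord (A : Type) [Group A] (v : Cfsg.Spor.Suz.Gen → A) :
    ∀ W : List ℕ, FreeGroup.lift v (freeWord W) = evalWord (letterVal Suz.genList v) W
  | [] => map_one _
  | l :: ls => by
    show FreeGroup.lift v (letterVal Suz.genList FreeGroup.of l * freeWord ls) =
      letterVal Suz.genList v l * evalWord _ ls
    rw [map_mul, lift_freeWord A v ls]
    congr 1
    unfold letterVal
    cases Suz.genList[l]? <;> simp

/-- The weakened presentation. -/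
def presU : InvPres Cfsg.Spor.Suz.Gen where
  edges := Cfsg.Spor.Suz.edges
  extra := wordsU.map freeWord
  gens := Suz.genList
  words := wordsU
  all_gens x := by cases x <;> decide
  all_nodes x := by cases x <;> decide
  words_iff A _ v _ := by simp [lift_freeWord]

theorem bound_G : (presU.sub H.sel).relIndex (presU.sub G.sel) ≠ 0 ∧
    (presU.sub H.sel).relIndex (presU.sub G.sel) ≤ 5346 :=
  presU.relIndex_le G.cert rfl G.inv_ok (rels := G.rels) (by decide +kernel) G.rules_ok
    (presU.subs_mem G.sel H.sel (by decide +kernel))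

theorem bound_H : (presU.sub Suz.J2.sel).relIndex (presU.sub H.sel) ≠ 0 ∧
    (presU.sub Suz.J2.sel).relIndex (presU.sub H.sel) ≤ 416 :=
  presU.relIndex_le H.cert rfl H.inv_ok (rels := H.rels) (by decide +kernel) H.rules_ok
    (presU.subs_mem H.sel Suz.J2.sel (by decide +kernel))

theorem bound_J2 : (presU.sub Suz.B.sel).relIndex (presU.sub Suz.J2.sel) ≠ 0 ∧
    (presU.sub Suz.B.sel).relIndex (presU.sub Suz.J2.sel) ≤ 280 :=
  presU.relIndex_le Suz.J2.cert rfl Suz.J2.inv_ok (rels := Suz.J2.rels) (by decide +kernel)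
    Suz.J2.rules_ok (presU.subs_mem Suz.J2.sel Suz.B.sel (by decide +kernel))

theorem bound_B : (presU.sub Suz.Cd.sel).relIndex (presU.sub Suz.B.sel) ≠ 0 ∧
    (presU.sub Suz.Cd.sel).relIndex (presU.sub Suz.B.sel) ≤ 135 :=
  presU.relIndex_le Suz.B.cert rfl Suz.B.inv_ok (rels := Suz.B.rels) (by decide +kernel)
    Suz.B.rules_ok (presU.subs_mem Suz.B.sel Suz.Cd.sel (by decide +kernel))

theorem bound_Cd : (⊥ : Subgroup presU.Gp).relIndex (presU.sub Suz.Cd.sel) ≠ 0 ∧
    (⊥ : Subgroup presU.Gp).relIndex (presU.sub Suz.Cd.sel) ≤ 16 :=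
  presU.relIndex_le Suz.Cd.cert rfl Suz.Cd.inv_ok (rels := Suz.Cd.rels) (by decide +kernel)
    Suz.Cd.rules_ok (fun W hW => absurd hW (List.not_mem_nil (a := W)))

/-- The weakened group has order at most `3 |Suz|`. -/
theorem card_le : Nat.card presU.Gp ≠ 0 ∧ Nat.card presU.Gp ≤ 3 * 448345497600 := by
  have h1 : presU.sub Suz.Cd.sel ≤ presU.sub Suz.B.sel := presU.sub_mono (by decide)
  have h2 : presU.sub Suz.B.sel ≤ presU.sub Suz.J2.sel := presU.sub_mono (by decide)
  have h3 : presU.sub Suz.J2.sel ≤ presU.sub H.sel := presU.sub_mono (by decide)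
  have h4 : presU.sub H.sel ≤ presU.sub G.sel := presU.sub_mono (by decide)
  have hc : Nat.card presU.Gp =
      (⊥ : Subgroup presU.Gp).relIndex (presU.sub Suz.Cd.sel) *
      (presU.sub Suz.Cd.sel).relIndex (presU.sub Suz.B.sel) *
      (presU.sub Suz.B.sel).relIndex (presU.sub Suz.J2.sel) *
      (presU.sub Suz.J2.sel).relIndex (presU.sub H.sel) *
      (presU.sub H.sel).relIndex (presU.sub G.sel) := by
    rw [Subgroup.relIndex_mul_relIndex _ _ _ bot_le h1,
      Subgroup.relIndex_mul_relIndex _ _ _ bot_le h2,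
      Subgroup.relIndex_mul_relIndex _ _ _ bot_le h3,
      Subgroup.relIndex_mul_relIndex _ _ _ bot_le h4,
      Subgroup.relIndex_bot_left, presU.sub_all G.sel rfl, Subgroup.card_top]
  rw [hc]
  refine ⟨?_, ?_⟩
  · simp only [Nat.mul_ne_zero_iff]
    exact ⟨⟨⟨⟨bound_Cd.1, bound_B.1⟩, bound_J2.1⟩, bound_H.1⟩, bound_G.1⟩
  · calc _ ≤ 16 * 135 * 280 * 416 * 5346 := Nat.mul_le_mul (Nat.mul_le_mul (Nat.mul_le_mul
          (Nat.mul_le_mul bound_Cd.2 bound_B.2) bound_J2.2) bound_H.2) bound_G.2
      _ = _ := by norm_num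

end Cfsg.Agent.T51.SuzMult
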