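import Cfsg.Agent.T51.SuzMult.Normal
import Cfsg.Agent.T51.SuzMult.Pres

/-!
# Stem extensions of `Suz` have kernel of order at most six
-/

set_option autoImplicit false
set_option maxRecDepth 100000

namespace Cfsg.Agent.T51.SuzMult

open Cfsg.Spor Cfsg.Agent.CosetEnum

section

variable {E : Type} [Group E] (σ : E →* G) (hσ : Function.Surjective σ)
  (hc : σ.ker ≤ Subgroup.center E)

theorem V_single (x : Cfsg.Spor.Suz.Gen) (l : ℕ) (h : Suz.genList[l]? = some x) :
    V [l] = (PresentedGroup.of x : G) := by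
  show Suz.pres.val l * 1 = _
  rw [mul_one]
  show letterVal Suz.genList _ l = _
  simp [letterVal, h]

include hσ hc

/-- Normalised lifts exist. -/
theorem exists_good : ∃ (s : E) (v : Cfsg.Spor.Suz.Gen → E), Good σ s v := by
  obtain ⟨a, b, c, f, g, ⟨hσa, hσb, hσc, hσf, hσg⟩, ⟨haa, hbb, hcc, hff, hgg⟩, hab, hbc, hbf, hgb,
    hfg⟩ := exists_A σ hσ hc
  obtain ⟨d₁, e₁, s, hσd₁, hσe₁, hσs, hss, hdd, hee, hde⟩ := exists_de σ hσ hc
  have hcd := cd_four σ hσ hc hσa hσc hσd₁ hσf hσg hσs hss hdd hcc hff hgg hfg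
  obtain ⟨y, hy⟩ : ∃ y, y = b * c * d₁ * c * d₁ := ⟨_, rfl⟩
  obtain ⟨u, hu⟩ : ∃ u, u = y ^ 5 := ⟨_, rfl⟩
  have hσy : σ y = V [1, 2, 3, 2, 3] := by
    rw [hy, map_mul, map_mul, map_mul, map_mul, hσb, hσc, hσd₁, ← V_append, ← V_append, ← V_append,
      ← V_append]
    rfl
  obtain ⟨k, hk⟩ : ∃ k, k = u * u * u := ⟨_, rfl⟩
  have hσk : σ k = 1 := by
    rw [hk, hu, ← pow_add, ← pow_add, map_pow, hσy, V_pow]; exact word_eq (W := []) (by decide +kernel)
  have hbi : b⁻¹ = b := inv_eq_of_mul_eq_one_right hbb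
  have hci : c⁻¹ = c := inv_eq_of_mul_eq_one_right hcc
  have hdb : Commute d₁ b := comm_db σ hσ hc d₁ b hσd₁ hσb
  have hdi : d₁⁻¹ = d₁ * s := inv_eq_of_mul_eq_one_right (by rw [← mul_assoc, hdd, hss])
  have hyi : y⁻¹ = d₁ * c * d₁ * c * b := by
    rw [hy]; simp only [mul_inv_rev, hbi, hci, hdi]
    calc d₁ * s * (c * (d₁ * s * (c * b))) = d₁ * (s * c * d₁) * (s * (c * b)) := by group
      _ = d₁ * c * d₁ * (s * s) * (c * b) := by
        rw [show s * c * d₁ = c * d₁ * s by rw [(cen σ hc hσs c).eq, mul_assoc, (cen σ hc hσs d₁).eq,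
          ← mul_assoc]]
        group
      _ = _ := by rw [hss]; group
  have hconj : d₁ * b * y * (d₁ * b)⁻¹ = y⁻¹ := by
    rw [hyi, hy]
    calc d₁ * b * (b * c * d₁ * c * d₁) * (d₁ * b)⁻¹
        = d₁ * (b * b) * c * d₁ * c * (d₁ * b⁻¹ * d₁⁻¹) := by group
      _ = d₁ * c * d₁ * c * b := by rw [hbb, hbi, hdb.eq]; group
  have hkk : k * k = 1 := by
    have h1 : d₁ * b * u * (d₁ * b)⁻¹ = u⁻¹ := by rw [hu, ← conj_pow, hconj, inv_pow]
    have h2 : d₁ * b * k * (d₁ * b)⁻¹ = k⁻¹ := by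
      rw [hk, show d₁ * b * (u * u * u) * (d₁ * b)⁻¹ =
        d₁ * b * u * (d₁ * b)⁻¹ * (d₁ * b * u * (d₁ * b)⁻¹) * (d₁ * b * u * (d₁ * b)⁻¹) by group,
        h1]
      group
    rw [← (cen σ hc hσk _).eq, mul_inv_cancel_right] at h2
    nth_rw 2 [h2]
    exact mul_inv_cancel k
  obtain ⟨e', he'⟩ : ∃ e', e' = u * e₁ * u⁻¹ := ⟨_, rfl⟩
  obtain ⟨e'', he''⟩ : ∃ e'', e'' = u * e' * u⁻¹ := ⟨_, rfl⟩
  have hσu : σ u = V (repWord [1, 2, 3, 2, 3] 5) := by rw [hu, map_pow, hσy, V_pow]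
  have hσe' : σ e' = V (repWord [1, 2, 3, 2, 3] 5 ++ [4] ++ (repWord [1, 2, 3, 2, 3] 5).reverse) :=
    he' ▸ map_conj σ (by decide) hσu hσe₁
  have hσe'' : σ e'' = V (repWord [1, 2, 3, 2, 3] 5 ++ (repWord [1, 2, 3, 2, 3] 5 ++ [4] ++
      (repWord [1, 2, 3, 2, 3] 5).reverse) ++ (repWord [1, 2, 3, 2, 3] 5).reverse) := by
    rw [he'', map_mul, map_mul, map_inv, hσe', hσu, ← V_reverse _ (by decide), ← V_append,
      ← V_append]
  have hsq : ∀ {z : E}, z * z = s → u * z * u⁻¹ * (u * z * u⁻¹) = s := fun {z} hz =>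
    calc u * z * u⁻¹ * (u * z * u⁻¹) = u * (z * z) * u⁻¹ := by group
      _ = s := by rw [hz, ← (cen σ hc hσs u).eq, mul_inv_cancel_right]
  have he'2 : e' * e' = s := he' ▸ hsq hee
  have he''2 : e'' * e'' = s := he'' ▸ hsq he'2
  obtain ⟨β, hβ, hb'⟩ := J2Mult70.exists_eq_mul σ hc (x := e' * e'') (y := e'' * e')
    (by rw [map_mul, map_mul, hσe', hσe'', ← V_append, ← V_append]
        exact word_eq (by decide +kernel))
  have hββ : β * β = 1 := by
    have h1 : e' * e' * e'' = e'' * (e' * e') * (β * β) := by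
      calc e' * e' * e'' = e' * (e' * e'') := mul_assoc _ _ _
        _ = e' * (e'' * e' * β) := by rw [hb']
        _ = e' * e'' * (e' * β) := by group
        _ = e'' * e' * (β * e') * β := by rw [hb']; group
        _ = _ := by rw [(cen σ hc hβ e').eq]; group
    rw [he'2, (cen σ hc hσs e'').eq] at h1
    exact (mul_left_cancel (a := e'' * s) (by rw [mul_one]; exact h1)).symm
  obtain ⟨j, hj, hj'⟩ := J2Mult70.exists_eq_mul σ hc (x := e' * e'') (y := e₁)
    (by rw [map_mul, hσe', hσe'', hσe₁, ← V_append]; exact word_eq (by decide +kernel))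
  have hσsβ : σ (s * β) = 1 := by rw [map_mul, hσs, hβ, one_mul]
  have hjj : j * j = s * β := by
    have h1 : e' * e'' * (e' * e'') = β := by
      nth_rw 2 [hb']
      calc e' * e'' * (e'' * e' * β) = e' * (e'' * e'') * e' * β := by group
        _ = β := by rw [he''2, ← (cen σ hc hσs e').eq, mul_assoc s, he'2, hss, one_mul]
    rw [hj', sq_mul_cen σ hc hj, hee] at h1
    calc j * j = s * (s * (j * j)) := by rw [← mul_assoc, hss, one_mul]
      _ = s * β := by rw [h1]
  have hsβ : s * β * (s * β) = 1 := by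
    rw [(cen σ hc hβ s).mul_mul_mul_comm s β, hss, hββ, one_mul]
  obtain ⟨t, ht⟩ : ∃ t, t = (u * e₁) ^ 3 := ⟨_, rfl⟩
  have htval : t = s * (j * k) := by
    calc t = (u * e₁ * u⁻¹) * (u * (u * e₁ * u⁻¹) * u⁻¹) * ((u * u * u) * e₁) := by
          rw [ht, pow_succ, pow_succ, pow_one]; group
      _ = e₁ * j * (k * e₁) := by rw [← he', ← he'', ← hk, hj']
      _ = e₁ * e₁ * (j * k) := by
        rw [show e₁ * j * (k * e₁) = e₁ * (j * k * e₁) by group,
          (cen σ hc (show σ (j * k) = 1 by rw [map_mul, hj, hσk, one_mul]) e₁).eq, ← mul_assoc]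
      _ = _ := by rw [hee]
  have hσjk : σ (j * k) = 1 := by rw [map_mul, hj, hσk, one_mul]
  have hσt : σ t = 1 := by rw [htval, map_mul, hσs, hσjk, one_mul]
  have htt : t * t = s * β := by
    rw [htval, (cen σ hc hσjk s).mul_mul_mul_comm s (j * k), hss, one_mul,
      sq_mul_cen σ hc hσk, hkk, mul_one, hjj]
  have ht4 : t * t * (t * t) = 1 := by rw [htt, hsβ]
  have hσt' : σ t⁻¹ = 1 := by rw [map_inv, hσt, inv_one]
  have hσtt : σ (t * t) = 1 := by rw [htt, hσsβ]
  refine ⟨β, fun x => match x with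
    | .a => a | .b => b | .c => c | .d => d₁ * t | .e => e₁ * t⁻¹ | .f => f | .g => g,
    ⟨fun x => ?_, hβ, hββ, ⟨haa, hbb, hcc, ?_, ?_, hff, hgg⟩, ⟨hab, hbc, ?_, hbf, hgb⟩, hfg.symm,
      ?_, ?_⟩⟩
  · cases x
    exacts [hσa.trans (V_single _ _ rfl), hσb.trans (V_single _ _ rfl),
      hσc.trans (V_single _ _ rfl),
      (by rw [map_mul, hσt, mul_one]; exact hσd₁.trans (V_single _ _ rfl)),
      (by rw [map_mul, hσt', mul_one]; exact hσe₁.trans (V_single _ _ rfl)),
      hσf.trans (V_single _ _ rfl), hσg.trans (V_single _ _ rfl)]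
  · show d₁ * t * (d₁ * t) = β
    rw [sq_mul_cen σ hc hσt, hdd, htt, ← mul_assoc, hss, one_mul]
  · show e₁ * t⁻¹ * (e₁ * t⁻¹) = β
    rw [sq_mul_cen σ hc hσt', hee, show t⁻¹ * t⁻¹ = (t * t)⁻¹ by group, htt,
      inv_eq_of_mul_eq_one_right hsβ, ← mul_assoc, hss, one_mul]
  · show (d₁ * t * (e₁ * t⁻¹)) ^ 3 = 1
    rw [(cen σ hc hσt e₁).mul_mul_mul_comm d₁ t⁻¹, mul_inv_cancel, mul_one, hde]
  · show (c * (d₁ * t)) ^ 4 = a
    rw [← mul_assoc, J2Mult70.central_pow_mul σ hc hσt, hcd,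
      show t ^ 4 = t * t * (t * t) by rw [pow_succ, pow_succ, pow_succ, pow_one]; group, ht4, mul_one]
  · show ((b * c * (d₁ * t) * c * (d₁ * t)) ^ 5 * (e₁ * t⁻¹)) ^ 3 = 1
    have hy' : b * c * (d₁ * t) * c * (d₁ * t) = y * (t * t) := by
      rw [hy]
      calc b * c * (d₁ * t) * c * (d₁ * t) = b * c * d₁ * (t * (c * d₁)) * t := by group
        _ = b * c * d₁ * (c * d₁ * t) * t := by rw [(cen σ hc hσt (c * d₁)).eq]
        _ = _ := by group
    have h5 : (t * t) ^ 5 = t * t := by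
      rw [show (t * t) ^ 5 = t * t * (t * t) * (t * t * (t * t)) * (t * t) by
        rw [pow_succ, pow_succ, pow_succ, pow_succ, pow_one]; group, ht4, one_mul,
        one_mul]
    rw [hy', J2Mult70.central_pow_mul σ hc hσtt, ← hu, h5,
      (cen σ hc hσtt e₁).mul_mul_mul_comm u t⁻¹, show t * t * t⁻¹ = t by group,
      J2Mult70.central_pow_mul σ hc hσt, ← ht, show t * t ^ 3 = t * t * (t * t) by rw [pow_succ, pow_succ, pow_one]; group, ht4]

end

theorem evalWord_reverse {A : Type} [Group A] {val : ℕ → A} (h : ∀ l, val l * val l = 1) :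
    ∀ U : List ℕ, evalWord val U.reverse = (evalWord val U)⁻¹
  | [] => by simp [evalWord]
  | l :: ls => by
    rw [List.reverse_cons, evalWord_append, evalWord_reverse h ls]
    simp [evalWord, inv_eq_of_mul_eq_one_right (h l)]

theorem map_evalWord {A B : Type} [Group A] [Group B] (φ : A →* B) (val : ℕ → A) :
    ∀ W : List ℕ, φ (evalWord val W) = evalWord (φ ∘ val) W
  | [] => map_one φ
  | l :: ls => by
    show φ (val l * evalWord val ls) = φ (val l) * evalWord (φ ∘ val) ls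
    rw [map_mul, map_evalWord φ val ls]

/-- A stem extension of `Suz` has kernel of order at most six. -/
theorem card_ker_le {E : Type} [Group E] [Finite E] (σ : E →* G)
    (hst : Cfsg.IsStemExtension σ) : Nat.card σ.ker ≤ 6 := by
  obtain ⟨hσ, hc, hder⟩ := hst
  obtain ⟨s, v, hv⟩ := exists_good σ hσ hc
  obtain ⟨hsa, hsb, hsc, hsd, hse, hsf, hsg⟩ := hv.sq
  obtain ⟨hab, hbc, hde, hbf, hgb⟩ := hv.edge
  let S₀ := Subgroup.zpowers s
  have hS : S₀ ≤ Subgroup.center E := Subgroup.zpowers_le.mpr (hc hv.map_s)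
  haveI : S₀.Normal := ⟨fun n hn y => by
    rw [Subgroup.mem_center_iff.mp (hS hn) y, mul_inv_cancel_right]; exact hn⟩
  let q := QuotientGroup.mk' S₀
  have hqs : q s = 1 := (QuotientGroup.eq_one_iff s).mpr (Subgroup.mem_zpowers s)
  let w : Cfsg.Spor.Suz.Gen → E ⧸ S₀ := q ∘ v
  have hsqw : ∀ x, w x * w x = 1 := by
    intro x
    show q (v x) * q (v x) = 1
    rw [← map_mul]
    cases x <;> simp only [hsa, hsb, hsc, hsd, hse, hsf, hsg, hqs, map_one]
  have hsq' : ∀ l, letterVal Suz.genList w l * letterVal Suz.genList w l = 1 := by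
    intro l
    unfold letterVal
    cases Suz.genList[l]? with
    | none => exact mul_one 1
    | some x => exact hsqw x
  have hval : ∀ l, σ (letterVal Suz.genList v l) = Suz.pres.val l := by
    intro l
    show _ = letterVal Suz.genList _ l
    unfold letterVal
    cases Suz.genList[l]? with
    | none => exact map_one σ
    | some x => exact hv.map x
  have hcom : ∀ (U : List ℕ) (x : ℕ), V U = 1 →
      evalWord (letterVal Suz.genList w) (comWord U x) = 1 := by
    intro U x hU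
    have e : letterVal Suz.genList w = q ∘ letterVal Suz.genList v := by
      funext l
      show _ = q (letterVal Suz.genList v l)
      unfold letterVal
      cases Suz.genList[l]? with
      | none => exact (map_one q).symm
      | some y => rfl
    have hk : σ (evalWord (letterVal Suz.genList v) U) = 1 := by
      rw [map_evalWord, show (σ ∘ letterVal Suz.genList v) = Suz.pres.val from funext hval]
      exact hU
    have hz : ∀ z : E ⧸ S₀, Commute (evalWord (letterVal Suz.genList w) U) z := by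
      intro z
      obtain ⟨z, rfl⟩ := QuotientGroup.mk'_surjective S₀ z
      rw [e, ← map_evalWord]
      exact (cen σ hc hk z).map q
    rw [comWord, evalWord_append, evalWord_append, evalWord_append, evalWord_reverse hsq']
    show evalWord _ U * (letterVal Suz.genList w x * 1) * (evalWord _ U)⁻¹ *
      (letterVal Suz.genList w x * 1) = 1
    rw [mul_one, (hz _).eq, mul_inv_cancel_right, hsq']
  have two : ∀ {x y : Cfsg.Spor.Suz.Gen}, Commute (v x) (v y) → (w x * w y) ^ 2 = 1 := by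
    intro x y h
    have h' : Commute (w x) (w y) := h.map q
    rw [h'.mul_pow, sq, sq, hsqw, hsqw, one_mul]
  have swap : ∀ {x y : E ⧸ S₀} {m : ℕ}, (x * y) ^ m = 1 → (y * x) ^ m = 1 := by
    intro x y m h
    rw [show y * x = y * (x * y) * y⁻¹ by group, conj_pow, h, mul_one, mul_inv_cancel]
  have edge : ∀ {x y : Cfsg.Spor.Suz.Gen} {m : ℕ}, (v x * v y) ^ m = 1 → (w x * w y) ^ m = 1 := by
    intro x y m h
    show (q (v x) * q (v y)) ^ m = 1
    rw [← map_mul, ← map_pow, h, map_one]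
  have hfg : (w .f * w .g) ^ 2 = w .a := by
    show (q (v .f) * q (v .g)) ^ 2 = q (v .a)
    rw [← map_mul, ← map_pow, hv.fg]
  have hcd : (w .c * w .d) ^ 4 = w .a := by
    show (q (v .c) * q (v .d)) ^ 4 = q (v .a)
    rw [← map_mul, ← map_pow, hv.cd]
  have hfg4 : (w .f * w .g) ^ 4 = 1 := by
    rw [show (4 : ℕ) = 2 + 2 from rfl, pow_add, hfg, hsqw]
  have hcd8 : (w .c * w .d) ^ 8 = 1 := by
    rw [show (8 : ℕ) = 4 + 4 from rfl, pow_add, hcd, hsqw]
  have hprel : ((w .b * w .c * w .d * w .c * w .d) ^ 5 * w .e) ^ 3 = 1 := by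
    show ((q (v .b) * q (v .c) * q (v .d) * q (v .c) * q (v .d)) ^ 5 * q (v .e)) ^ 3 = 1
    simp only [← map_mul, ← map_pow]
    rw [hv.prel, map_one]
  have hm : ∀ {x : Cfsg.Spor.Suz.Gen} (l : ℕ), Suz.genList[l]? = some x → σ (v x) = V [l] :=
    fun l h => (hv.map _).trans (V_single _ l h).symm
  have cac := two (comm_ac σ hσ hc _ _ (hm 2 rfl) (hm 0 rfl))
  have cad := two (comm_ad σ hσ hc _ _ (hm 3 rfl) (hm 0 rfl))
  have cae := two (comm_ae σ hσ hc _ _ (hm 4 rfl) (hm 0 rfl))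
  have caf := two (comm_af σ hσ hc _ _ (hm 5 rfl) (hm 0 rfl))
  have cag := two (comm_ag σ hσ hc _ _ (hm 6 rfl) (hm 0 rfl))
  have cbd := two (comm_db σ hσ hc _ _ (hm 3 rfl) (hm 1 rfl))
  have cbe := two (comm_eb σ hσ hc _ _ (hm 4 rfl) (hm 1 rfl))
  have cce := two (comm_ce σ hσ hc _ _ (hm 2 rfl) (hm 4 rfl))
  have ccf := two (comm_cf σ hσ hc _ _ (hm 2 rfl) (hm 5 rfl))
  have ccg := two (comm_cg σ hσ hc _ _ (hm 2 rfl) (hm 6 rfl))
  have cdf := two (comm_df σ hσ hc _ _ (hm 3 rfl) (hm 5 rfl))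
  have cdg := two (comm_dg σ hσ hc _ _ (hm 3 rfl) (hm 6 rfl))
  have cef := two (comm_ef σ hσ hc _ _ (hm 4 rfl) (hm 5 rfl))
  have ceg := two (comm_eg σ hσ hc _ _ (hm 4 rfl) (hm 6 rfl))
  have hcox : ∀ r ∈ coxRelators Cfsg.Spor.Suz.edges, FreeGroup.lift w r = 1 := by
    rintro r ⟨x, -, y, -, rfl⟩
    rw [map_pow, map_mul, FreeGroup.lift_apply_of, FreeGroup.lift_apply_of]
    cases x <;> cases y <;>
      simp [coxLabel, Cfsg.Spor.Suz.edges, hsqw, edge hab, edge hbc, edge hde, edge hbf, edge hgb,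
        swap (edge hab), swap (edge hbc), swap (edge hde), swap (edge hbf), swap (edge hgb), hfg4,
        swap hfg4, hcd8, swap hcd8, cac, cad, cae, caf, cag, cbd, cbe, cce, ccf, ccg, cdf, cdg,
        cef, ceg, swap cac, swap cad, swap cae, swap caf, swap cag, swap cbd, swap cbe, swap cce,
        swap ccf, swap ccg, swap cdf, swap cdg, swap cef, swap ceg]
  have hwi : ∀ x, (w x)⁻¹ = w x := fun x => inv_eq_of_mul_eq_one_right (hsqw x)
  have hwords : ∀ W ∈ wordsU, evalWord (letterVal Suz.genList w) W = 1 := by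
    intro W hW
    simp only [wordsU, List.mem_append, List.mem_map, List.mem_cons, List.not_mem_nil, or_false] at hW
    rcases hW with ((rfl | rfl | rfl) | ⟨x, -, rfl⟩) | ⟨x, -, rfl⟩
    · show w .a * (w .d * (w .c * (w .d * (w .c * (w .d * (w .c * (w .d * (w .c * 1)))))))) = 1
      have : (w .d * w .c) ^ 4 = w .a := by
        rw [show w .d * w .c = (w .c * w .d)⁻¹ by rw [mul_inv_rev, hwi, hwi], inv_pow, hcd, hwi]
      calc _ = w .a * (w .d * w .c) ^ 4 := by simp [pow_succ, mul_assoc]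
        _ = 1 := by rw [this, hsqw]
    · show w .a * (w .g * (w .f * (w .g * (w .f * 1)))) = 1
      have : (w .g * w .f) ^ 2 = w .a := by
        rw [show w .g * w .f = (w .f * w .g)⁻¹ by rw [mul_inv_rev, hwi, hwi], inv_pow, hfg, hwi]
      calc _ = w .a * (w .g * w .f) ^ 2 := by simp [pow_succ, mul_assoc]
        _ = 1 := by rw [this, hsqw]
    · rw [pWord, evalWord_repWord, evalWord_append, evalWord_repWord]
      show ((w .b * (w .c * (w .d * (w .c * (w .d * 1))))) ^ 5 * (w .e * 1)) ^ 3 = 1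
      simpa [mul_assoc] using hprel
    · exact hcom _ x (word_eq (W := []) (by decide +kernel))
    · exact hcom _ x (word_eq (W := []) (by decide +kernel))
  have hrel : ∀ r ∈ coxRelators presU.edges ∪ {r | r ∈ presU.extra}, FreeGroup.lift w r = 1 := by
    rintro r (hr | hr)
    · exact hcox r hr
    · exact (presU.words_iff _ w hsqw).mpr hwords r hr
  let φ : presU.Gp →* E ⧸ S₀ := PresentedGroup.toGroup hrel
  let R : Subgroup E := φ.range.comap q
  have hR : R = ⊤ := by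
    have hvR : ∀ x, v x ∈ R := fun x => ⟨PresentedGroup.of x, PresentedGroup.toGroup.of hrel⟩
    have hmap : R.map σ = ⊤ := by
      rw [eq_top_iff, ← PresentedGroup.closure_range_of, Subgroup.closure_le]
      rintro _ ⟨x, rfl⟩
      exact ⟨v x, hvR x, hv.map x⟩
    have hcr : commutator E ≤ R := by
      rw [commutator_def, Subgroup.commutator_le]
      intro x _ y _
      obtain ⟨x', hx', hxe⟩ : σ x ∈ R.map σ := hmap ▸ Subgroup.mem_top _
      obtain ⟨y', hy', hye⟩ : σ y ∈ R.map σ := hmap ▸ Subgroup.mem_top _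
      obtain ⟨i, hi, hxi⟩ := J2Mult70.exists_eq_mul σ hc (x := x) (y := x') hxe.symm
      obtain ⟨j, hj, hyj⟩ := J2Mult70.exists_eq_mul σ hc (x := y) (y := y') hye.symm
      rw [hxi, hyj, Cfsg.Agent.Schur.commutatorElement_mul_central (hc hi) (hc hj),
        commutatorElement_def]
      exact mul_mem (mul_mem (mul_mem hx' hy') (inv_mem hx')) (inv_mem hy')
    rw [eq_top_iff]
    intro x _
    obtain ⟨x', hx', hxe⟩ : σ x ∈ R.map σ := hmap ▸ Subgroup.mem_top _
    obtain ⟨i, hi, rfl⟩ := J2Mult70.exists_eq_mul σ hc (x := x) (y := x') hxe.symm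
    exact mul_mem hx' (hcr (hder hi))
  have hφ : Function.Surjective φ := by
    intro z
    obtain ⟨z, rfl⟩ := QuotientGroup.mk'_surjective S₀ z
    exact (show z ∈ R from hR ▸ Subgroup.mem_top z)
  haveI : Finite presU.Gp := Nat.finite_of_card_ne_zero card_le.1
  have hq : Nat.card (E ⧸ S₀) ≤ 3 * 448345497600 :=
    (Nat.card_le_card_of_surjective φ hφ).trans card_le.2
  have hS2 : Nat.card S₀ ≤ 2 := by
    rw [Nat.card_zpowers]
    exact orderOf_le_of_pow_eq_one two_pos (by rw [sq, hv.sq_s])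
  have hE : Nat.card E ≤ 3 * 448345497600 * 2 := by
    rw [Subgroup.card_eq_card_quotient_mul_card_subgroup S₀]
    exact Nat.mul_le_mul hq hS2
  have hK : Nat.card E = 448345497600 * Nat.card σ.ker := by
    rw [Subgroup.card_eq_card_quotient_mul_card_subgroup σ.ker,
      Nat.card_congr (QuotientGroup.quotientKerEquivOfSurjective σ hσ).toEquiv, Suz.card_eq.1]
  omega

end Cfsg.Agent.T51.SuzMult
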