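import Cfsg.Agent.T51.SuzMult.MatGroup
import Cfsg.Agent.T51.SuzMult.Upper

/-!
# A stem extension of `Suz` with kernel cyclic of order six
-/

set_option autoImplicit false
set_option maxRecDepth 100000

namespace Cfsg.Agent.T51.SuzMult

open Cfsg.Spor Cfsg.Agent.CosetEnum
open scoped commutatorElement

/-- `GL(12, 7)` modulo its centre. -/
abbrev PGL12 : Type := GL12 ⧸ Subgroup.center GL12

/-- The projection. -/
def proj : GL12 →* PGL12 := QuotientGroup.mk' _

/-- The images of the generators. -/
def genQ (x : Cfsg.Spor.Suz.Gen) : PGL12 :=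
  match x with
  | .a => proj (gl 0) | .b => proj (gl 1) | .c => proj (gl 2) | .d => proj (gl 3)
  | .e => proj (gl 4) | .f => proj (gl 5) | .g => proj (gl 6)

theorem letterVal_genQ : ∀ l, letterVal Suz.genList genQ l = proj (gl l)
  | 0 => rfl
  | 1 => rfl
  | 2 => rfl
  | 3 => rfl
  | 4 => rfl
  | 5 => rfl
  | 6 => rfl
  | n + 7 => by
    have h1 : gl (n + 7) = 1 := by
      apply Units.ext
      show toM (genP (n + 7)) = _
      rw [genP, List.getD_eq_default _ _ (by simp [MatData.mats]), toM_one]
      rfl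
    rw [h1, map_one]
    rfl

theorem genQ_kills : ∀ r ∈ coxRelators Suz.pres.edges ∪ {r | r ∈ Suz.pres.extra},
    FreeGroup.lift genQ r = 1 := by
  refine Suz.pres.kills genQ fun W hW => ?_
  have e : letterVal Suz.pres.gens genQ = proj ∘ gl := funext letterVal_genQ
  rw [e, ← map_evalWord]
  exact (QuotientGroup.eq_one_iff _).mpr (word_central (List.all_eq_true.mp relWords_scalar W hW))

/-- The projective representation. -/
def phi : G →* PGL12 := PresentedGroup.toGroup genQ_kills

theorem phi_of (x : Cfsg.Spor.Suz.Gen) : phi (PresentedGroup.of x) = genQ x :=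
  PresentedGroup.toGroup.of genQ_kills

theorem phi_injective : Function.Injective phi := by
  haveI : IsSimpleGroup G := Suz.simple
  rw [← MonoidHom.ker_eq_bot_iff]
  refine ((MonoidHom.normal_ker phi).eq_bot_or_eq_top).resolve_right fun h => ?_
  have ha : phi (PresentedGroup.of Cfsg.Spor.Suz.Gen.a) = 1 :=
    MonoidHom.mem_ker.mp (h ▸ Subgroup.mem_top _)
  rw [phi_of] at ha
  exact gl_not_central ((QuotientGroup.eq_one_iff _).mp ha)

/-- The preimage of the image. -/
def pre : Subgroup GL12 := phi.range.comap proj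

theorem gl_mem (l : ℕ) : gl l ∈ pre := by
  show proj (gl l) ∈ phi.range
  rw [← letterVal_genQ l]
  unfold letterVal
  cases Suz.genList[l]? with
  | none => exact one_mem _
  | some x => exact ⟨_, phi_of x⟩

/-- A letter inside the preimage. -/
def glPre (l : ℕ) : pre := ⟨gl l, gl_mem l⟩

theorem coe_glPre (W : List ℕ) : ((evalWord glPre W : pre) : GL12) = evalWord gl W :=
  map_evalWord pre.subtype glPre W

/-- The map from the preimage onto `Suz`. -/
noncomputable def psi : pre →* G :=
  (MonoidHom.ofInjective phi_injective).symm.toMonoidHom.comp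
    ((proj.comp pre.subtype).codRestrict phi.range fun x => x.2)

theorem psi_spec (x : pre) : phi (psi x) = proj x :=
  congrArg Subtype.val
    ((MonoidHom.ofInjective phi_injective).apply_symm_apply ⟨proj (x : GL12), x.2⟩)

theorem psi_eq_iff {x : pre} {g : G} : psi x = g ↔ proj x = phi g := by
  rw [← psi_spec]
  exact ⟨congrArg _, fun h => phi_injective h⟩

theorem psi_surjective : Function.Surjective psi := fun g => by
  obtain ⟨y, hy⟩ := QuotientGroup.mk'_surjective (Subgroup.center GL12) (phi g)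
  exact ⟨⟨y, g, hy.symm⟩, psi_eq_iff.mpr hy⟩

theorem psi_ker_center : psi.ker ≤ Subgroup.center pre := by
  intro x hx
  have h : (x : GL12) ∈ Subgroup.center GL12 := by
    rw [MonoidHom.mem_ker, psi_eq_iff, map_one] at hx
    exact (QuotientGroup.eq_one_iff _).mp hx
  rw [Subgroup.mem_center_iff]
  exact fun y => Subtype.ext (Subgroup.mem_center_iff.mp h y)

theorem ab_cert : (decide (dig ((evM [0, 1, 0, 1, 1]).getD 0 0) 1 = 1) &&
    decide (dig ((evM [1, 0, 1, 0, 1]).getD 0 0) 1 = 5)) = true := by decide +kernel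

theorem ab_not_proj : proj (gl 0 * gl 1) ≠ proj (gl 1 * gl 0) := by
  intro h
  have ha : evalWord gl [0, 0] = 1 := gl_word_one (by decide +kernel)
  have hb : evalWord gl [1, 1] = 1 := gl_word_one (by decide +kernel)
  have ha' : gl 0 * gl 0 = 1 := by simpa [evalWord] using ha
  have hb' : gl 1 * gl 1 = 1 := by simpa [evalWord] using hb
  have hz : gl 0 * gl 1 * gl 0 * gl 1 ∈ Subgroup.center GL12 := by
    rw [← QuotientGroup.eq_one_iff]
    show proj (gl 0 * gl 1 * gl 0 * gl 1) = 1
    rw [map_mul, map_mul _ (gl 0 * gl 1), h, map_mul,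
      show proj (gl 1) * proj (gl 0) * proj (gl 0) * proj (gl 1) =
        proj (gl 1 * (gl 0 * gl 0) * gl 1) by simp [mul_assoc],
      ha', mul_one, hb', map_one]
  have hw : evalWord gl [0, 1, 0, 1, 1] = evalWord gl [1, 0, 1, 0, 1] := by
    show gl 0 * (gl 1 * (gl 0 * (gl 1 * (gl 1 * 1)))) = gl 1 * (gl 0 * (gl 1 * (gl 0 * (gl 1 * 1))))
    calc _ = gl 0 * gl 1 * gl 0 * gl 1 * gl 1 := by group
      _ = gl 1 * (gl 0 * gl 1 * gl 0 * gl 1) := (Subgroup.mem_center_iff.mp hz (gl 1)).symm
      _ = _ := by group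
  have h0 := congrArg (fun g : GL12 => (g : Matrix (Fin 12) (Fin 12) (ZMod 7)) 0 1) hw
  simp only [← (evM_spec _).2, toM, Matrix.of_apply, Fin.val_zero, Fin.val_one] at h0
  have hg := ab_cert
  rw [Bool.and_eq_true, decide_eq_true_eq, decide_eq_true_eq] at hg
  rw [hg.1, hg.2] at h0
  exact absurd h0 (by decide)

/-- The cover. -/
abbrev Cover : Type := commutator pre

/-- The covering map. -/
noncomputable def sig : Cover →* G := psi.comp (commutator pre).subtype

theorem sig_surjective : Function.Surjective sig := by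
  haveI : IsSimpleGroup G := Suz.simple
  have hG : commutator G = ⊤ := by
    refine (commutator G).normal_of_characteristic.eq_bot_or_eq_top.resolve_left fun h => ?_
    rw [commutator_eq_bot_iff_center_eq_top] at h
    have hab : (PresentedGroup.of Cfsg.Spor.Suz.Gen.a : G) * PresentedGroup.of Cfsg.Spor.Suz.Gen.b =
        PresentedGroup.of Cfsg.Spor.Suz.Gen.b * PresentedGroup.of Cfsg.Spor.Suz.Gen.a :=
      (Subgroup.mem_center_iff.mp (h ▸ Subgroup.mem_top _) _).symm
    have hab' := congrArg phi hab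
    rw [map_mul, map_mul, phi_of, phi_of] at hab'
    change proj (gl 0) * proj (gl 1) = proj (gl 1) * proj (gl 0) at hab'
    rw [← map_mul, ← map_mul] at hab'
    exact ab_not_proj hab'
  intro g
  have hmem : g ∈ (commutator pre).map psi := by
    rw [show (commutator pre).map psi = commutator G by
      rw [commutator_def, Subgroup.map_commutator, ← MonoidHom.range_eq_map,
        MonoidHom.range_eq_top.mpr psi_surjective, commutator_def], hG]
    exact Subgroup.mem_top g
  obtain ⟨x, hx, rfl⟩ := hmem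
  exact ⟨⟨x, hx⟩, rfl⟩

theorem sig_stem : Cfsg.IsStemExtension sig := by
  refine ⟨sig_surjective, ?_, ?_⟩
  · intro x hx
    rw [Subgroup.mem_center_iff]
    exact fun y => Subtype.ext (Subgroup.mem_center_iff.mp (psi_ker_center (x := (x : pre)) hx) y)
  · have h := Schur.commutator_eq_map psi psi_ker_center (commutator pre).subtype sig_surjective
    intro x _
    have hx : (x : pre) ∈ (commutator Cover).map (commutator pre).subtype := h ▸ x.2
    obtain ⟨y, hy, hyx⟩ := hx
    rwa [Subtype.ext hyx] at hy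

theorem certs : (decide (evM ([3, 2, 1, 6, 5, 4, 1, 2, 3, 2, 1, 4, 5, 6, 1, 2]) =
      mulP (scalP 6) (evM [2, 1, 6, 5, 4, 1, 2, 3, 2, 1, 4, 5, 6, 1, 2, 3])) &&
    decide (evM (repWord [1, 5, 6] 10) = scalP 2) && decide (evM [1, 1] = scalP 1) &&
    decide (evM [5, 5] = scalP 1) && decide (evM [6, 6] = scalP 1) &&
    decide (evM (repWord [1, 5] 3) = scalP 1) && decide (evM (repWord [6, 1] 3) = scalP 1)) = true := by
  decide +kernel

theorem exists_order_six : ∃ k : Cover, k ∈ sig.ker ∧ orderOf k = 6 := by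
  have hc := certs
  simp only [Bool.and_eq_true, decide_eq_true_eq] at hc
  obtain ⟨⟨⟨⟨⟨⟨hcomm, h10⟩, h11⟩, h55⟩, h66⟩, h15⟩, h61⟩ := hc
  have one_of : ∀ {W : List ℕ}, evM W = scalP 1 → evalWord glPre W = 1 := fun {W} h =>
    Subtype.ext ((coe_glPre W).trans (gl_word_one h))
  -- the element of order three
  have h3 : evalWord glPre (repWord [1, 5, 6] 10) ∈ commutator pre := by
    rw [← Abelianization.ker_of pre, MonoidHom.mem_ker, evalWord_repWord, map_pow]
    set b := Abelianization.of (glPre 1)
    set f := Abelianization.of (glPre 5)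
    set g := Abelianization.of (glPre 6)
    have hpair : ∀ (i j : ℕ), evalWord glPre [i, j] = glPre i * glPre j := fun i j => by
      show glPre i * (glPre j * 1) = _
      rw [mul_one]
    have hb : b ^ 2 = 1 := by rw [sq, ← map_mul, ← hpair, one_of h11, map_one]
    have hf : f ^ 2 = 1 := by rw [sq, ← map_mul, ← hpair, one_of h55, map_one]
    have hg : g ^ 2 = 1 := by rw [sq, ← map_mul, ← hpair, one_of h66, map_one]
    have hval : Abelianization.of (evalWord glPre [1, 5, 6]) = b * f * g := by
      show Abelianization.of (glPre 1 * (glPre 5 * (glPre 6 * 1))) = _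
      simp [b, f, g, mul_assoc]
    rw [hval, mul_pow, mul_pow, show (10 : ℕ) = 2 * 5 from rfl, pow_mul, pow_mul, pow_mul, hb, hf,
      hg, one_pow, one_mul, one_mul]
  -- the element of order two
  obtain ⟨x, hx⟩ : ∃ x, x = evalWord glPre [3] := ⟨_, rfl⟩
  obtain ⟨y, hy⟩ : ∃ y, y = evalWord glPre [2, 1, 6, 5, 4, 1, 2, 3, 2, 1, 4, 5, 6, 1, 2] := ⟨_, rfl⟩
  have h2 : ((⁅x, y⁆ : pre) : GL12).val = (6 : ZMod 7) • (1 : Matrix (Fin 12) (Fin 12) (ZMod 7)) := by
    have hxy : (((x : GL12) * (y : GL12) : GL12) : Matrix (Fin 12) (Fin 12) (ZMod 7)) =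
        (6 : ZMod 7) • (((y : GL12) * (x : GL12) : GL12) : Matrix (Fin 12) (Fin 12) (ZMod 7)) := by
      rw [hx, hy, coe_glPre, coe_glPre, ← evalWord_append, ← evalWord_append, ← (evM_spec _).2,
        ← (evM_spec _).2]
      show toM (evM [3, 2, 1, 6, 5, 4, 1, 2, 3, 2, 1, 4, 5, 6, 1, 2]) = _
      rw [hcomm, toM_mulP (scal_ok (by norm_num)).1 (evM_spec _).1, (scal_ok (by norm_num)).2,
        smul_mul_assoc, one_mul]
      norm_num
    have e : ((⁅x, y⁆ : pre) : GL12) = (x : GL12) * (y : GL12) * ((y : GL12) * (x : GL12))⁻¹ := by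
      simp [commutatorElement_def, mul_assoc]
    rw [e, Units.val_mul, hxy, smul_mul_assoc, ← Units.val_mul, mul_inv_cancel, Units.val_one]
  obtain ⟨k, hk⟩ : ∃ k : pre, k = ⁅x, y⁆ * evalWord glPre (repWord [1, 5, 6] 10) := ⟨_, rfl⟩
  have hkmem : k ∈ commutator pre := hk ▸ mul_mem
    (Subgroup.commutator_mem_commutator (Subgroup.mem_top x) (Subgroup.mem_top y)) h3
  have hkval : (k : GL12).val = (5 : ZMod 7) • (1 : Matrix (Fin 12) (Fin 12) (ZMod 7)) := by
    rw [hk, Subgroup.coe_mul, Units.val_mul, h2, coe_glPre, gl_word_scalar (by norm_num) h10,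
      smul_mul_smul_comm, one_mul]
    norm_num
    decide
  refine ⟨⟨k, hkmem⟩, ?_, ?_⟩
  · show psi k = 1
    rw [psi_eq_iff, map_one]
    exact (QuotientGroup.eq_one_iff _).mpr (mem_center_of_scalar hkval)
  · rw [← orderOf_injective (commutator pre).subtype Subtype.val_injective,
      ← orderOf_injective pre.subtype Subtype.val_injective,
      ← orderOf_injective (Units.coeHom _) Units.val_injective]
    show orderOf (k : GL12).val = 6
    rw [hkval]
    rw [orderOf_eq_iff (by norm_num)]
    refine ⟨?_, fun m hm hm0 => ?_⟩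
    · rw [smul_pow, one_pow, show (5 : ZMod 7) ^ 6 = 1 by decide, one_smul]
    · rw [smul_pow, one_pow]
      intro h
      have h00 := congrFun (congrFun h 0) 0
      rw [Matrix.smul_apply, Matrix.one_apply_eq, smul_eq_mul, mul_one] at h00
      revert h00
      interval_cases m <;> decide

/-- The Schur multiplier of `Suz` is cyclic of order six. -/
theorem multiplier : Cfsg.HasCyclicSchurMultiplier Cfsg.Spor.Suz 6 := by
  haveI : Finite G := Suz.finite
  obtain ⟨k, hk, hord⟩ := exists_order_six
  haveI : Finite sig.ker := by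
    obtain ⟨π, hπ⟩ := Schur.exists_surjective_of_stem sig sig_stem
    haveI : Finite (Schur.Mult G) := Schur.finite_Mult
    exact Finite.of_surjective π hπ
  haveI : Finite Cover := Schur.finite_of_finite_ker sig
  have hle : Subgroup.zpowers k ≤ sig.ker := Subgroup.zpowers_le.mpr hk
  have heq : sig.ker = Subgroup.zpowers k :=
    (Subgroup.eq_of_le_of_card_ge hle (by
      rw [Nat.card_zpowers, hord]
      exact card_ker_le sig sig_stem)).symm
  have hcyc : IsCyclic sig.ker := by rw [heq]; infer_instance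
  have hcard : Nat.card sig.ker = 6 := by rw [heq, Nat.card_zpowers, hord]
  haveI : Finite Cfsg.Spor.Suz := Suz.finite
  haveI := hcyc
  have hM : Nat.card (Multiplicative (ZMod 6)) = 6 := by
    rw [Nat.card_congr Multiplicative.toAdd, Nat.card_zmod]
  have e : sig.ker ≃* Multiplicative (ZMod 6) := mulEquivOfCyclicCardEq (hcard.trans hM.symm)
  refine Schur.hasSchurMultiplier_of_card_le (G := Cfsg.Spor.Suz) sig sig_stem e fun Γ _ _ σ hσ => ?_
  rw [Nat.card_congr Multiplicative.toAdd, Nat.card_zmod]
  exact card_ker_le σ hσ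

end Cfsg.Agent.T51.SuzMult
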