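import Cfsg.Agent.T51.SuzMult.Words
import Cfsg.Agent.PresMult70.Exp2

/-!
# Lifting relations to a central extension

Commutation of lifts of commuting involution images, and normalisation of odd edge relations.
-/

set_option autoImplicit false

namespace Cfsg.Agent.T51.SuzMult

universe u v

section General

variable {E : Type u} [Group E] {H : Type v} [Group H] (σ : E →* H) (hc : σ.ker ≤ Subgroup.center E)

include hc

theorem cen {k : E} (hk : σ k = 1) (x : E) : Commute k x := J2Mult70.central_of σ hc hk x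

/-- An element of square central commutes with the squares in the centraliser of its image. -/
theorem commute_sq {x y : E} (hx : σ (x * x) = 1) (h : Commute (σ x) (σ y)) :
    Commute x (y * y) := by
  obtain ⟨j, hj, he⟩ := J2Mult70.exists_eq_mul σ hc (x := x * y * x⁻¹) (y := y)
    (by rw [map_mul, map_mul, map_inv, h.eq]; group)
  have hjx := cen σ hc hj x
  have h2 : x * x * y * (x * x)⁻¹ = y * (j * j) :=
    calc x * x * y * (x * x)⁻¹ = x * (x * y * x⁻¹) * x⁻¹ := by group
      _ = x * y * (j * x⁻¹) := by rw [he]; group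
      _ = (x * y * x⁻¹) * j := by rw [hjx.inv_right.eq]; group
      _ = y * (j * j) := by rw [he]; group
  have hjj : j * j = 1 := by
    rw [(cen σ hc hx y).eq] at h2
    have h3 : y * 1 = y * (j * j) := by rw [← h2]; group
    exact (mul_left_cancel h3).symm
  have : x * (y * y) * x⁻¹ = y * y :=
    calc x * (y * y) * x⁻¹ = x * y * x⁻¹ * (x * y * x⁻¹) := by group
      _ = y * j * (y * j) := by rw [he]
      _ = y * y := by rw [(cen σ hc hj y).mul_mul_mul_comm y j, hjj, mul_one]
  exact mul_inv_eq_iff_eq_mul.mp this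

/-- Two involutions with an odd power relation modulo the kernel: one of them can be corrected. -/
theorem odd_fix {x y : E} (hx : x * x = 1) (hy : y * y = 1) (m : ℕ)
    (hk : σ ((x * y) ^ (2 * m + 1)) = 1) :
    ∃ k : E, σ k = 1 ∧ k * k = 1 ∧ (x * (y * k)) ^ (2 * m + 1) = 1 := by
  have hi : (x * y)⁻¹ = y * x := by
    rw [mul_inv_rev, inv_eq_of_mul_eq_one_right hy, inv_eq_of_mul_eq_one_right hx]
  obtain ⟨k, hkdef⟩ : ∃ k, k = (x * y) ^ (2 * m + 1) := ⟨_, rfl⟩
  rw [← hkdef] at hk
  have hconj : x * k * x⁻¹ = k⁻¹ := by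
    rw [hkdef, ← conj_pow, ← inv_pow, hi, inv_eq_of_mul_eq_one_right hx]
    congr 1
    rw [← mul_assoc, hx, one_mul]
  rw [← (cen σ hc hk x).eq, mul_inv_cancel_right] at hconj
  have hkk : k * k = 1 := by nth_rw 2 [hconj]; exact mul_inv_cancel k
  refine ⟨k, hk, hkk, ?_⟩
  rw [← mul_assoc, J2Mult70.central_pow_mul σ hc hk, ← hkdef, pow_succ, pow_mul, sq, hkk, one_pow,
    one_mul, hkk]

theorem sq_mul_cen {x k : E} (hk : σ k = 1) : x * k * (x * k) = x * x * (k * k) :=
  (cen σ hc hk x).mul_mul_mul_comm x k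

end General

variable {E : Type u} [Group E] (σ : E →* G)

/-- All lifts of two generators commute. -/
def Comm (i j : ℕ) : Prop := ∀ x y : E, σ x = V [i] → σ y = V [j] → Commute x y

theorem Comm.symm {i j : ℕ} (h : Comm σ i j) : Comm σ j i := fun x y hx hy => (h y x hy hx).symm

theorem map_conj {w x : E} {P : List ℕ} {i : ℕ} (hP : P.all (fun l => Nat.blt l 7) = true)
    (hw : σ w = V P) (hx : σ x = V [i]) :
    σ (w * x * w⁻¹) = V (P ++ [i] ++ P.reverse) := by
  rw [map_mul, map_mul, map_inv, hw, hx, V_append, V_append, V_reverse P hP]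

theorem sigma_sq {i : ℕ} (h : sameAction [i, i] [] = true) {x : E} (hx : σ x = V [i]) :
    σ (x * x) = 1 := by
  rw [map_mul, hx, ← V_append]; exact word_eq h

variable (hσ : Function.Surjective σ) (hc : σ.ker ≤ Subgroup.center E)
include hσ hc

theorem Comm.conj {i j k l : ℕ} (h : Comm σ i j) (P : List ℕ)
    (hk : sameAction (P ++ [i] ++ P.reverse) [k] = true)
    (hl : sameAction (P ++ [j] ++ P.reverse) [l] = true)
    (hP : P.all (fun l => Nat.blt l 7) = true) : Comm σ k l := by
  intro x' y' hx' hy'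
  obtain ⟨x, hx⟩ := hσ (V [i])
  obtain ⟨y, hy⟩ := hσ (V [j])
  obtain ⟨w, hw⟩ := hσ (V P)
  exact PresMult70.commute_conj σ hc (h x y hx hy) (by rw [map_conj σ hP hw hx, hx', word_eq hk])
    (by rw [map_conj σ hP hw hy, hy', word_eq hl])

/-- A lift of `i` commutes with the lifts of products of squares from its centraliser. -/
theorem commute_sqProd {i : ℕ} (hi : sameAction [i, i] [] = true) {x : E} (hx : σ x = V [i]) :
    ∀ L : List (List ℕ), (L.all fun U => sameAction ([i] ++ U) (U ++ [i])) = true →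
      ∀ y : E, σ y = V (sqProd L) → Commute x y
  | [], _, _, hy => (cen σ hc (hy.trans V_nil) x).symm
  | U :: L, h, y, hy => by
    rw [List.all_cons, Bool.and_eq_true] at h
    obtain ⟨w, hw⟩ := hσ (V U)
    obtain ⟨z, hz⟩ := hσ (V (sqProd L))
    have hxw : Commute (σ x) (σ w) := by
      rw [hx, hw]
      show V [i] * V U = V U * V [i]
      rw [← V_append, ← V_append]; exact word_eq h.1
    refine PresMult70.commute_of_eq σ hc rfl ?_
      ((commute_sq σ hc (sigma_sq σ hi hx) hxw).mul_right (commute_sqProd hi hx L h.2 z hz))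
    rw [hy, sqProd_cons, V_append, V_append, map_mul, map_mul, hw, hz]

/-- The certificate form of `commute_sqProd`. -/
theorem comm_of_sqProd {i j : ℕ} (hi : sameAction [i, i] [] = true) (L : List (List ℕ))
    (hL : (L.all fun U => sameAction ([i] ++ U) (U ++ [i])) = true)
    (hj : sameAction (sqProd L) [j] = true) : Comm σ i j := fun x y hx hy =>
  commute_sqProd σ hσ hc hi hx L hL y (hy.trans (word_eq hj).symm)

omit hc in
/-- A conjugate of an involution lift is an involution lift. -/
theorem exists_inv_conj {i j : ℕ} (h : ∃ x : E, σ x = V [i] ∧ x * x = 1) (P : List ℕ)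
    (hP : P.all (fun l => Nat.blt l 7) = true)
    (hj : sameAction (P ++ [i] ++ P.reverse) [j] = true) : ∃ y : E, σ y = V [j] ∧ y * y = 1 := by
  obtain ⟨x, hx, hxx⟩ := h
  obtain ⟨w, hw⟩ := hσ (V P)
  refine ⟨w * x * w⁻¹, by rw [map_conj σ hP hw hx, word_eq hj], ?_⟩
  rw [show w * x * w⁻¹ * (w * x * w⁻¹) = w * (x * x) * w⁻¹ by group, hxx]
  group

end Cfsg.Agent.T51.SuzMult
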