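/-!
# Word data for lifting the generators of `Suz`

Lists of words whose squares multiply to a generator, each commuting with another one; found by a
random search in the permutation representation on 1782 points.
-/

set_option autoImplicit false

namespace Cfsg.Agent.T51.SuzMult.Data

/-- Squares of words commuting with letter 2, multiplying to letter 4. -/
def sq24 : List (List Nat) := [[5,6],
  [1,2,3,2,3,2,1,2,1,2,3,0,4],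
  [3,1,2,1,3,2,3,1,2,1,3,2,3,1,4],
  [1,2,3,4,3,2,3,4,3,2,1,2,1,2,3,4,1,2,1,3,2,3,1,2,1,3,2,3,1]]

/-- Squares of words commuting with letter 2, multiplying to letter 5. -/
def sq25 : List (List Nat) := [[1,2,3,2,3,2,1,2,1,2,3,5],
  [4,3,1,2,1,3,2,3,1,2,1,3,2,3,1],
  [1,2,3,4,3,2,3,4,3,2,1,2,1,2,3,4,3,5],
  [3,1,2,1,3,2,3,1,2,1,3,2,3,1,4,5]]

/-- Squares of words commuting with letter 2, multiplying to letter 6. -/
def sq26 : List (List Nat) := [[6,1,2,3,2,3,2,1,2,1,2,3],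
  [4,3,1,2,1,3,2,3,1,2,1,3,2,3,1],
  [4,6,3,2,1,4,2,4,1,2,3,2,3,2,1,4],
  [3,1,2,1,3,2,3,1,2,1,3,2,3,1,4,6]]

/-- Squares of words commuting with letter 3, multiplying to letter 5. -/
def sq35 : List (List Nat) := [[1,6],
  [5,6,1,5,6,1]]

/-- Squares of words commuting with `a`, multiplying to an element taking `g` to `c`. -/
def sqP : List (List Nat) := [[6,4,1,3,2,4,0,6,5,1,0,1,5,6,0,4,2,3,1,4,6,0,6,4,1,3,2,4,0,6,5,1,0,1,5,6,0,4,2,3,1,4,6,0,6,4,1,3,2,4,0,6,5,1],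
  [0,2,4,1,2,5,3,2,6,0,6,1,0,1,6,0,6,2,3,5,2,1,4,2,0,0,0,2,4,1,2,5,3,2,6,0,6,1,0,1,6,0,6,2,3,5,2,1,4,2,0,0,0,2,4,1,2,5,3,2,6,0,6,1],
  [4,3],
  [4,1,5,4,3,2,1,5,0,1,0,1,0,5,1,2,3,4,5,1,4,0,4,1,5,4,3,2,1,5,0,1,0,1,0,5,1,2,3,4,5,1,4,0,4,1,5,4,3,2,1,5,0,1],
  [1,5,5,5,3,2,6,1,6,0,6,1,6,2,3,5,5,5,1,0,1,5,5,5,3,2,6,1,6,0,6,1,6,2,3,5,5,5,1,0,1,5,5,5,3,2,6,1,6]]

end Cfsg.Agent.T51.SuzMult.Data
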