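import Cfsg.Agent.T51.SuzMult.Central

/-!
# Lifts of the generators of `Suz`

In a central extension every pair of commuting generators has commuting lifts, and lifts can be
chosen with `a, b, c, f, g` involutions, `d^2 = e^2` of order at most two and all the defining
relations exact except `(abcf)^5` and `(bfg)^5`.
-/

set_option autoImplicit false
set_option maxRecDepth 100000

namespace Cfsg.Agent.T51.SuzMult

open Cfsg.Agent.CosetEnum

universe u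
variable {E : Type u} [Group E] (σ : E →* G) (hσ : Function.Surjective σ)
  (hc : σ.ker ≤ Subgroup.center E)

include hσ hc

theorem comm_af : Comm σ 5 0 :=
  comm_of_sqProd σ hσ hc (by decide +kernel) [[2, 3, 2, 3]] (by decide +kernel) (by decide +kernel)
theorem comm_ag : Comm σ 6 0 :=
  comm_of_sqProd σ hσ hc (by decide +kernel) [[2, 3, 2, 3]] (by decide +kernel) (by decide +kernel)
theorem comm_ac : Comm σ 2 0 :=
  comm_of_sqProd σ hσ hc (by decide +kernel) [[5, 6]] (by decide +kernel) (by decide +kernel)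
theorem comm_ad : Comm σ 3 0 :=
  comm_of_sqProd σ hσ hc (by decide +kernel) [[5, 6]] (by decide +kernel) (by decide +kernel)
theorem comm_ae : Comm σ 4 0 :=
  comm_of_sqProd σ hσ hc (by decide +kernel) [[5, 6]] (by decide +kernel) (by decide +kernel)
theorem comm_ce : Comm σ 2 4 :=
  comm_of_sqProd σ hσ hc (by decide +kernel) Data.sq24 (by decide +kernel) (by decide +kernel)
theorem comm_cf : Comm σ 2 5 :=
  comm_of_sqProd σ hσ hc (by decide +kernel) Data.sq25 (by decide +kernel) (by decide +kernel)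
theorem comm_cg : Comm σ 2 6 :=
  comm_of_sqProd σ hσ hc (by decide +kernel) Data.sq26 (by decide +kernel) (by decide +kernel)
theorem comm_df : Comm σ 3 5 :=
  comm_of_sqProd σ hσ hc (by decide +kernel) Data.sq35 (by decide +kernel) (by decide +kernel)
theorem comm_db : Comm σ 3 1 :=
  Comm.conj σ hσ hc (comm_df σ hσ hc) [5, 1] (by decide +kernel) (by decide +kernel) rfl
theorem comm_dg : Comm σ 3 6 :=
  Comm.conj σ hσ hc (comm_df σ hσ hc) [1, 6, 5, 1] (by decide +kernel) (by decide +kernel) rfl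
theorem comm_eb : Comm σ 4 1 :=
  Comm.conj σ hσ hc (comm_db σ hσ hc) [3, 4] (by decide +kernel) (by decide +kernel) rfl
theorem comm_ef : Comm σ 4 5 :=
  Comm.conj σ hσ hc (comm_df σ hσ hc) [3, 4] (by decide +kernel) (by decide +kernel) rfl
theorem comm_eg : Comm σ 4 6 :=
  Comm.conj σ hσ hc (comm_dg σ hσ hc) [3, 4] (by decide +kernel) (by decide +kernel) rfl

omit hσ hc in
theorem map_fg_sq {f g : E} (hf : σ f = V [5]) (hg : σ g = V [6]) :
    σ ((f * g) ^ 2) = V [0] := by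
  rw [map_pow, map_mul, hf, hg, ← V_append, V_pow]; exact word_eq (by decide +kernel)

/-- Some lift of `f` is an involution. -/
theorem exists_inv_f : ∃ f : E, σ f = V [5] ∧ f * f = 1 := by
  obtain ⟨f, hf⟩ := hσ (V [5])
  obtain ⟨w, hw⟩ := hσ (V [1, 6, 5, 1])
  obtain ⟨v, hv⟩ := hσ (V [1, 0, 1, 5, 0, 1])
  obtain ⟨s, hs⟩ : ∃ s, s = f * f := ⟨_, rfl⟩
  have hσs : σ s = 1 := hs ▸ sigma_sq σ (by decide +kernel) hf
  have hsq : ∀ u : E, u * f * u⁻¹ * (u * f * u⁻¹) = s := fun u =>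
    calc u * f * u⁻¹ * (u * f * u⁻¹) = u * (f * f) * u⁻¹ := by group
      _ = s * u * u⁻¹ := by rw [← hs, (cen σ hc hσs u).eq]
      _ = s := mul_inv_cancel_right _ _
  obtain ⟨g, hg⟩ : ∃ g, g = w * f * w⁻¹ := ⟨_, rfl⟩
  have hgg : g * g = s := hg ▸ hsq w
  have hσg : σ g = V [6] := by
    rw [hg, map_conj σ (by decide) hw hf]; exact word_eq (by decide +kernel)
  obtain ⟨a, ha⟩ : ∃ a, a = (f * g) ^ 2 := ⟨_, rfl⟩
  have hσa : σ a = V [0] := ha ▸ map_fg_sq σ hf hσg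
  have haf : Commute a f := (comm_af σ hσ hc f a hf hσa).symm
  have hgf : g * f = s * s * (f * g)⁻¹ := by
    rw [eq_mul_inv_iff_mul_eq]
    calc g * f * (f * g) = g * (f * f) * g := by group
      _ = s * (g * g) := by rw [← hs, ← (cen σ hc hσs g).eq, mul_assoc]
      _ = s * s := by rw [hgg]
  have hσs4 : σ (s * s) = 1 := by rw [map_mul, hσs, one_mul]
  have hconj : f * (f * g) * f⁻¹ = g * f := by
    calc f * (f * g) * f⁻¹ = (f * f) * g * f⁻¹ := by group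
      _ = g * (f * f) * f⁻¹ := by rw [← hs, (cen σ hc hσs g).eq]
      _ = g * f := by group
  have haa : a * a = s * s * (s * s) := by
    have h1 : a = s * s * (s * s) * a⁻¹ := by
      calc a = f * a * f⁻¹ := by rw [← haf.eq, mul_inv_cancel_right]
        _ = (g * f) ^ 2 := by rw [ha, ← conj_pow, hconj]
        _ = _ := by
          rw [hgf, (cen σ hc hσs4 _).mul_pow, ha, inv_pow, sq (s * s)]
    nth_rw 2 [h1]
    rw [← mul_assoc, ← (cen σ hc (show σ (s * s * (s * s)) = 1 by rw [map_mul, hσs4, one_mul]) a).eq,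
      mul_inv_cancel_right]
  obtain ⟨k, hk, hak⟩ := J2Mult70.exists_eq_mul σ hc (x := a) (y := v * f * v⁻¹)
    (by rw [map_conj σ (by decide) hv hf, hσa]; exact word_eq (by decide +kernel))
  rw [hak, sq_mul_cen σ hc hk, hsq v] at haa
  have hkk : k * k = s * s * s := by
    apply mul_left_cancel (a := s)
    rw [haa]; group
  have hσk : σ k⁻¹ = 1 := by rw [map_inv, hk, inv_one]
  have ht : σ (s * k⁻¹) = 1 := by rw [map_mul, hσs, hσk, one_mul]
  refine ⟨f * (s * k⁻¹), by rw [map_mul, ht, mul_one, hf], ?_⟩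
  rw [sq_mul_cen σ hc ht, ← hs, sq_mul_cen σ hc hσk]
  calc s * (s * s * (k⁻¹ * k⁻¹)) = s * s * s * (k * k)⁻¹ := by group
    _ = 1 := by rw [hkk]; group

omit hσ hc in
theorem a_inv {f g : E} (hf : f * f = 1) (hg : g * g = 1)
    (haf : Commute ((f * g) ^ 2) f) : (f * g) ^ 2 * (f * g) ^ 2 = 1 := by
  have hi : (f * g)⁻¹ = g * f := by
    rw [mul_inv_rev, inv_eq_of_mul_eq_one_right hg, inv_eq_of_mul_eq_one_right hf]
  have h : (f * g) ^ 2 = ((f * g) ^ 2)⁻¹ := by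
    calc (f * g) ^ 2 = f * (f * g) ^ 2 * f⁻¹ := by rw [← haf.eq, mul_inv_cancel_right]
      _ = (g * f) ^ 2 := by
        rw [← conj_pow, inv_eq_of_mul_eq_one_right hf]
        congr 1
        rw [← mul_assoc, hf, one_mul]
      _ = _ := by rw [← inv_pow, hi]
  nth_rw 2 [h]
  exact mul_inv_cancel _

/-- Involution lifts of `a, b, c, f, g` with exact relations. -/
theorem exists_A : ∃ a b c f g : E,
    (σ a = V [0] ∧ σ b = V [1] ∧ σ c = V [2] ∧ σ f = V [5] ∧ σ g = V [6]) ∧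
    (a * a = 1 ∧ b * b = 1 ∧ c * c = 1 ∧ f * f = 1 ∧ g * g = 1) ∧
    (a * b) ^ 5 = 1 ∧ (b * c) ^ 3 = 1 ∧ (b * f) ^ 3 = 1 ∧ (g * b) ^ 3 = 1 ∧ a = (f * g) ^ 2 := by
  obtain ⟨f₀, hσf₀, hf₀⟩ := exists_inv_f σ hσ hc
  obtain ⟨g₀, hσg₀, hg₀⟩ := exists_inv_conj σ hσ ⟨f₀, hσf₀, hf₀⟩ [1, 6, 5, 1] rfl
    (j := 6) (by decide +kernel)
  obtain ⟨b₀, hσb₀, hb₀⟩ := exists_inv_conj σ hσ ⟨f₀, hσf₀, hf₀⟩ [5, 1] rfl
    (j := 1) (by decide +kernel)
  obtain ⟨c₀, hσc₀, hc₀⟩ := exists_inv_conj σ hσ ⟨f₀, hσf₀, hf₀⟩ [1, 5, 2, 1] rfl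
    (j := 2) (by decide +kernel)
  obtain ⟨a, ha⟩ : ∃ a, a = (f₀ * g₀) ^ 2 := ⟨_, rfl⟩
  have hσa : σ a = V [0] := ha ▸ map_fg_sq σ hσf₀ hσg₀
  have haa : a * a = 1 := ha ▸ a_inv hf₀ hg₀ (ha ▸ (comm_af σ hσ hc f₀ a hσf₀ hσa).symm)
  have tri : ∀ {x y : E} {U W : List ℕ} (n : ℕ), σ x = V U → σ y = V W →
      sameAction (repWord (U ++ W) n) [] = true → σ ((x * y) ^ n) = 1 := fun n hx hy hU => by
    rw [map_pow, map_mul, hx, hy, ← V_append, V_pow]; exact word_eq hU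
  -- `a b`
  obtain ⟨k, hk, hkk, hab⟩ := odd_fix σ hc haa hb₀ 2
    (tri 5 hσa hσb₀ (by decide +kernel))
  obtain ⟨b, hb⟩ : ∃ b, b = b₀ * k := ⟨_, rfl⟩
  rw [← hb] at hab
  have hσb : σ b = V [1] := by rw [hb, map_mul, hk, mul_one, hσb₀]
  have hbb : b * b = 1 := by rw [hb, sq_mul_cen σ hc hk, hb₀, hkk, one_mul]
  -- `b c`
  obtain ⟨k₁, hk₁, hkk₁, hbc⟩ := odd_fix σ hc hbb hc₀ 1 (tri 3 hσb hσc₀ (by decide +kernel))
  -- `b f`
  obtain ⟨k₂, hk₂, hkk₂, hbf⟩ := odd_fix σ hc hbb hf₀ 1 (tri 3 hσb hσf₀ (by decide +kernel))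
  -- `b g`
  obtain ⟨k₃, hk₃, hkk₃, hbg⟩ := odd_fix σ hc hbb hg₀ 1 (tri 3 hσb hσg₀ (by decide +kernel))
  have hgg : g₀ * k₃ * (g₀ * k₃) = 1 := by rw [sq_mul_cen σ hc hk₃, hg₀, hkk₃, one_mul]
  refine ⟨a, b, c₀ * k₁, f₀ * k₂, g₀ * k₃, ⟨hσa, hσb, by rw [map_mul, hk₁, mul_one, hσc₀],
    by rw [map_mul, hk₂, mul_one, hσf₀], by rw [map_mul, hk₃, mul_one, hσg₀]⟩,
    ⟨haa, hbb, by rw [sq_mul_cen σ hc hk₁, hc₀, hkk₁, one_mul],
    by rw [sq_mul_cen σ hc hk₂, hf₀, hkk₂, one_mul], hgg⟩, hab, hbc, hbf, ?_, ?_⟩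
  · rw [show g₀ * k₃ * b = b * (b * (g₀ * k₃)) * b⁻¹ by
      rw [inv_eq_of_mul_eq_one_right hbb, ← mul_assoc, hbb, one_mul]]
    rw [conj_pow, show (b * (g₀ * k₃)) ^ 3 = 1 from hbg]
    group
  · have hσk : σ (k₂ * k₃) = 1 := by rw [map_mul, hk₂, hk₃, one_mul]
    rw [ha, (cen σ hc hk₂ g₀).mul_mul_mul_comm f₀ k₃,
      J2Mult70.central_pow_mul σ hc hσk, sq (k₂ * k₃),
      (cen σ hc hk₃ k₂).mul_mul_mul_comm k₂ k₃, hkk₂, hkk₃, mul_one, mul_one]

end Cfsg.Agent.T51.SuzMult
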