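import Mathlib

/-!
# Packed matrices of degree 12 over the field of seven elements

A row is a natural number with twelve digits to the base 4096, each below 7.
-/

set_option autoImplicit false

namespace Cfsg.Agent.T51.SuzMult

/-- Pack `n` digits to the base 4096. -/
def pk : ℕ → (ℕ → ℕ) → ℕ
  | 0, _ => 0
  | n + 1, f => f 0 + 4096 * pk n (fun i => f (i + 1))

/-- The digit number `j`. -/
def dig (v j : ℕ) : ℕ := v / 4096 ^ j % 4096

theorem pk_congr : ∀ {n : ℕ} {f g : ℕ → ℕ}, (∀ j < n, f j = g j) → pk n f = pk n g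
  | 0, _, _, _ => rfl
  | n + 1, f, g, h => by
    rw [pk, pk, h 0 (by omega), pk_congr fun j hj => h (j + 1) (by omega)]

theorem dig_pk : ∀ {n : ℕ} {f : ℕ → ℕ}, (∀ j < n, f j < 4096) → ∀ j < n, dig (pk n f) j = f j
  | 0, _, _, j, hj => absurd hj (Nat.not_lt_zero j)
  | n + 1, f, h, 0, _ => by
    rw [dig, pk, pow_zero, Nat.div_one, Nat.add_mul_mod_self_left, Nat.mod_eq_of_lt (h 0 (by omega))]
  | n + 1, f, h, j + 1, hj => by
    rw [dig, pk, pow_succ', ← Nat.div_div_eq_div_mul, Nat.add_mul_div_left _ _ (by norm_num),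
      Nat.div_eq_of_lt (h 0 (by omega)), zero_add]
    exact dig_pk (fun i hi => h (i + 1) (by omega)) j (by omega)

theorem pk_sum {ι : Type*} [Fintype ι] (c : ι → ℕ) : ∀ (n : ℕ) (f : ι → ℕ → ℕ),
    ∑ i, c i * pk n (f i) = pk n (fun j => ∑ i, c i * f i j)
  | 0, f => by simp [pk]
  | n + 1, f => by
    simp only [pk, mul_add, Finset.sum_add_distrib]
    rw [← pk_sum c n (fun i j => f i (j + 1)), Finset.mul_sum]
    congr 1
    exact Finset.sum_congr rfl fun i _ => by ring

/-- Reduce all digits modulo 7. -/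
def red (v : ℕ) : ℕ := pk 12 (fun j => dig v j % 7)

theorem dig_red (v : ℕ) {j : ℕ} (hj : j < 12) : dig (red v) j = dig v j % 7 :=
  dig_pk (fun i _ => lt_of_lt_of_le (Nat.mod_lt _ (by norm_num)) (by norm_num)) j hj

/-- The row `Σ r_k B_k`, reduced. -/
def rowMul (B : List ℕ) (r : ℕ) : ℕ := red (∑ k : Fin 12, dig r k * B.getD k 0)

/-- The product of two packed matrices. -/
def mulP (A B : List ℕ) : List ℕ := A.map (rowMul B)

/-- All rows are reduced. -/
def okP (A : List ℕ) : Bool :=
  Nat.beq A.length 12 && A.all fun r => Nat.beq r (red r)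

theorem okP.row {A : List ℕ} (h : okP A = true) (i : Fin 12) :
    A.getD i 0 = red (A.getD i 0) ∧ (i : ℕ) < A.length := by
  rw [okP, Bool.and_eq_true, List.all_eq_true] at h
  have hl : (i : ℕ) < A.length := by rw [Nat.eq_of_beq_eq_true h.1]; exact i.2
  refine ⟨?_, hl⟩
  rw [List.getD_eq_getElem _ _ hl]
  exact Nat.eq_of_beq_eq_true (h.2 _ (List.getElem_mem hl))

theorem dig_lt_seven {A : List ℕ} (h : okP A = true) (i : Fin 12) {j : ℕ} (hj : j < 12) :
    dig (A.getD i 0) j < 7 := by
  rw [(okP.row h i).1, dig_red _ hj]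
  exact Nat.mod_lt _ (by norm_num)

theorem okP_mulP {A : List ℕ} (B : List ℕ) (hA : okP A = true) : okP (mulP A B) = true := by
  rw [okP, Bool.and_eq_true, List.all_eq_true] at hA ⊢
  refine ⟨by rw [mulP, List.length_map]; exact hA.1, fun r hr => ?_⟩
  obtain ⟨a, -, rfl⟩ := List.mem_map.mp hr
  rw [show rowMul B a = red (rowMul B a) from pk_congr fun j hj => by
    show _ = dig (rowMul B a) j % 7
    rw [rowMul, dig_red _ hj, Nat.mod_mod]]
  exact Nat.beq_eq.mpr (by
    show red (rowMul B a) = red (red (rowMul B a))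
    exact pk_congr fun j hj => by rw [dig_red _ hj, Nat.mod_mod])

/-- The matrix of a packed matrix. -/
def toM (A : List ℕ) : Matrix (Fin 12) (Fin 12) (ZMod 7) :=
  Matrix.of fun i j => (dig (A.getD i 0) j : ZMod 7)

theorem toM_mulP {A B : List ℕ} (hA : okP A = true) (hB : okP B = true) :
    toM (mulP A B) = toM A * toM B := by
  ext i j
  have hi := (okP.row hA i).2
  rw [Matrix.mul_apply]
  simp only [toM, Matrix.of_apply]
  rw [List.getD_eq_getElem (mulP A B) _ (by rw [mulP, List.length_map]; exact hi)]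
  simp only [mulP, List.getElem_map]
  rw [← List.getD_eq_getElem A 0 hi, rowMul, dig_red _ j.2, ZMod.natCast_mod]
  have hrow : ∀ k : Fin 12, B.getD k 0 = pk 12 (fun l => dig (B.getD k 0) l) := fun k => by
    conv_lhs => rw [(okP.row hB k).1]
    exact pk_congr fun l hl => Nat.mod_eq_of_lt (dig_lt_seven hB k hl)
  rw [show (∑ k : Fin 12, dig (A.getD i 0) k * B.getD k 0) =
      pk 12 (fun l => ∑ k : Fin 12, dig (A.getD i 0) k * dig (B.getD k 0) l) from
    (Finset.sum_congr rfl fun k _ => by rw [← hrow k]).trans (pk_sum _ 12 _), dig_pk ?_ _ j.2]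
  · push_cast
    rfl
  · intro l hl
    calc ∑ k : Fin 12, dig (A.getD i 0) k * dig (B.getD k 0) l ≤ ∑ _k : Fin 12, 6 * 6 :=
          Finset.sum_le_sum fun k _ => Nat.mul_le_mul
            (Nat.le_of_lt_succ (dig_lt_seven hA i k.2)) (Nat.le_of_lt_succ (dig_lt_seven hB k hl))
      _ < 4096 := by simp

/-- A scalar matrix. -/
def scalP (c : ℕ) : List ℕ := (List.range 12).map fun i => c % 7 * 4096 ^ i

theorem toM_scalP (c : ℕ) (h : (List.range 12).all (fun i => (List.range 12).all fun j =>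
    Nat.beq (dig ((scalP c).getD i 0) j) (if i = j then c % 7 else 0)) = true) :
    toM (scalP c) = (c : ZMod 7) • 1 := by
  ext i j
  rw [List.all_eq_true] at h
  have h' := h i (List.mem_range.mpr i.2)
  rw [List.all_eq_true] at h'
  have h'' := Nat.eq_of_beq_eq_true (h' j (List.mem_range.mpr j.2))
  simp only [toM, Matrix.of_apply, h'', Matrix.smul_apply, Matrix.one_apply, smul_eq_mul]
  rcases eq_or_ne i j with rfl | hij
  · simp [ZMod.natCast_mod]
  · simp [hij, Fin.val_ne_iff.mpr hij]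

end Cfsg.Agent.T51.SuzMult
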