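import Cfsg.Agent.T51.SuzMult.Mat12
import Cfsg.Agent.T51.SuzMult.MatData
import Cfsg.Agent.SporB.Suz.Main

/-!
# The matrices of the sixfold cover as elements of `GL(12, 7)`
-/

set_option autoImplicit false
set_option maxRecDepth 100000

namespace Cfsg.Agent.T51.SuzMult

open Cfsg.Agent.CosetEnum

/-- `GL(12, 7)`. -/
abbrev GL12 : Type := (Matrix (Fin 12) (Fin 12) (ZMod 7))ˣ

/-- The packed matrix of a letter. -/
def genP (l : ℕ) : List ℕ := MatData.mats.getD l (scalP 1)

/-- The packed inverse of a letter. -/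
def invP (l : ℕ) : List ℕ := MatData.invs.getD l (scalP 1)

/-- The packed value of a word. -/
def evM : List ℕ → List ℕ
  | [] => scalP 1
  | l :: ls => mulP (genP l) (evM ls)

theorem ok_tables : (List.range 8).all (fun l => okP (genP l) && okP (invP l) &&
    decide (mulP (genP l) (invP l) = scalP 1) && decide (mulP (invP l) (genP l) = scalP 1)) = true ∧
    (List.range 7).all (fun c => okP (scalP c) && (List.range 12).all fun i =>
      (List.range 12).all fun j =>
        Nat.beq (dig ((scalP c).getD i 0) j) (if i = j then c % 7 else 0)) = true := by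
  decide +kernel

theorem scal_ok {c : ℕ} (hc : c < 7) : okP (scalP c) = true ∧
    toM (scalP c) = (c : ZMod 7) • (1 : Matrix (Fin 12) (Fin 12) (ZMod 7)) := by
  have h := List.all_eq_true.mp ok_tables.2 c (List.mem_range.mpr hc)
  rw [Bool.and_eq_true] at h
  exact ⟨h.1, toM_scalP c h.2⟩

theorem toM_one : toM (scalP 1) = (1 : Matrix (Fin 12) (Fin 12) (ZMod 7)) := by
  rw [(scal_ok (by norm_num)).2, Nat.cast_one, one_smul]

theorem gen_ok (l : ℕ) : okP (genP l) = true ∧ okP (invP l) = true ∧
    toM (genP l) * toM (invP l) = 1 ∧ toM (invP l) * toM (genP l) = 1 := by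
  rcases Nat.lt_or_ge l 8 with h | h
  · have h' := List.all_eq_true.mp ok_tables.1 l (List.mem_range.mpr h)
    simp only [Bool.and_eq_true, decide_eq_true_eq] at h'
    obtain ⟨⟨⟨h1, h2⟩, h3⟩, h4⟩ := h'
    exact ⟨h1, h2, by rw [← toM_mulP h1 h2, h3, toM_one], by rw [← toM_mulP h2 h1, h4, toM_one]⟩
  · have hm : MatData.mats.length = 7 := rfl
    have hi : MatData.invs.length = 7 := rfl
    rw [genP, invP, List.getD_eq_default _ _ (by omega), List.getD_eq_default _ _ (by omega),
      toM_one, one_mul]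
    exact ⟨(scal_ok (by norm_num)).1, (scal_ok (by norm_num)).1, rfl, rfl⟩

/-- The element of a letter. -/
def gl (l : ℕ) : GL12 where
  val := toM (genP l)
  inv := toM (invP l)
  val_inv := (gen_ok l).2.2.1
  inv_val := (gen_ok l).2.2.2

theorem evM_spec : ∀ W : List ℕ, okP (evM W) = true ∧
    toM (evM W) = ((evalWord gl W : GL12) : Matrix (Fin 12) (Fin 12) (ZMod 7))
  | [] => ⟨(scal_ok (by norm_num)).1, toM_one⟩
  | l :: ls => by
    obtain ⟨h1, h2⟩ := evM_spec ls
    refine ⟨okP_mulP _ (gen_ok l).1, ?_⟩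
    show toM (mulP (genP l) (evM ls)) = _
    rw [toM_mulP (gen_ok l).1 h1, h2]
    show _ = ((gl l * evalWord gl ls : GL12) : Matrix (Fin 12) (Fin 12) (ZMod 7))
    rw [Units.val_mul]
    rfl

/-- Words with the same packed value have the same value. -/
theorem gl_word_eq {U W : List ℕ} (h : evM U = evM W) : evalWord gl U = evalWord gl W :=
  Units.ext (by rw [← (evM_spec U).2, ← (evM_spec W).2, h])

theorem gl_word_one {U : List ℕ} (h : evM U = scalP 1) : evalWord gl U = 1 :=
  gl_word_eq (W := []) h

theorem gl_word_scalar {U : List ℕ} {c : ℕ} (hc : c < 7) (h : evM U = scalP c) :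
    ((evalWord gl U : GL12) : Matrix (Fin 12) (Fin 12) (ZMod 7)) = (c : ZMod 7) • 1 := by
  rw [← (evM_spec U).2, h, (scal_ok hc).2]

theorem mem_center_of_scalar {g : GL12} {c : ZMod 7}
    (h : (g : Matrix (Fin 12) (Fin 12) (ZMod 7)) = c • 1) : g ∈ Subgroup.center GL12 := by
  rw [Subgroup.mem_center_iff]
  intro x
  apply Units.ext
  rw [Units.val_mul, Units.val_mul, h, mul_smul_comm, smul_mul_assoc, one_mul, mul_one]

/-- A value is one of the scalars. -/
def isScal (A : List ℕ) : Bool := (List.range 7).any fun c => decide (A = scalP c)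

theorem word_central {U : List ℕ} (h : isScal (evM U) = true) :
    evalWord gl U ∈ Subgroup.center GL12 := by
  rw [isScal, List.any_eq_true] at h
  obtain ⟨c, hc, hU⟩ := h
  exact mem_center_of_scalar (gl_word_scalar (List.mem_range.mp hc) (of_decide_eq_true hU))

theorem relWords_scalar : Suz.pres.relWords.all (fun W => isScal (evM W)) = true := by
  decide +kernel

theorem gens_ne : (decide (dig ((evM [0, 1]).getD 0 0) 0 = 1) &&
    decide (dig ((evM [1, 0]).getD 0 0) 0 = 6)) = true := by decide +kernel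

theorem gl_not_central : gl 0 ∉ Subgroup.center GL12 := by
  intro h
  have hc : evalWord gl [0, 1] = evalWord gl [1, 0] := by
    show gl 0 * (gl 1 * 1) = gl 1 * (gl 0 * 1)
    rw [mul_one, mul_one, (Subgroup.mem_center_iff.mp h (gl 1)).symm]
  have h0 := congrArg (fun g : GL12 => (g : Matrix (Fin 12) (Fin 12) (ZMod 7)) 0 0) hc
  simp only [← (evM_spec _).2, toM, Matrix.of_apply, Fin.val_zero] at h0
  have hg := gens_ne
  rw [Bool.and_eq_true, decide_eq_true_eq, decide_eq_true_eq] at hg
  rw [hg.1, hg.2] at h0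
  exact absurd h0 (by decide)

end Cfsg.Agent.T51.SuzMult
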