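import Cfsg.Agent.T51.SuzMult.Lifts

/-!
# Normalised lifts of all seven generators of `Suz`
-/

set_option autoImplicit false
set_option maxRecDepth 100000

namespace Cfsg.Agent.T51.SuzMult

open Cfsg.Agent.CosetEnum

universe u
variable {E : Type u} [Group E] (σ : E →* G) (hσ : Function.Surjective σ)
  (hc : σ.ker ≤ Subgroup.center E)

include hσ hc

/-- Lifts of `d` and `e` with squares a central involution and `(de)^3 = 1`. -/
theorem exists_de : ∃ d e s : E, σ d = V [3] ∧ σ e = V [4] ∧ σ s = 1 ∧ s * s = 1 ∧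
    d * d = s ∧ e * e = s ∧ (d * e) ^ 3 = 1 := by
  obtain ⟨d₀, hd₀⟩ := hσ (V [3])
  obtain ⟨h, hh⟩ := hσ (V [2, 1, 6, 5, 4, 1, 2])
  obtain ⟨w, hw⟩ := hσ (V [2, 1, 0, 1, 0, 4, 3, 2, 1, 3, 2, 3, 4, 3, 2, 3, 1, 2, 0, 1, 5, 6, 3, 1, 2])
  obtain ⟨s, hs⟩ : ∃ s, s = d₀ * d₀ := ⟨_, rfl⟩
  have hσs : σ s = 1 := hs ▸ sigma_sq σ (by decide +kernel) hd₀
  have hsq : ∀ u : E, u * d₀ * u⁻¹ * (u * d₀ * u⁻¹) = s := fun u =>
    calc u * d₀ * u⁻¹ * (u * d₀ * u⁻¹) = u * (d₀ * d₀) * u⁻¹ := by group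
      _ = s * u * u⁻¹ := by rw [← hs, (cen σ hc hσs u).eq]
      _ = s := mul_inv_cancel_right _ _
  obtain ⟨d', hd'⟩ : ∃ d', d' = h * d₀ * h⁻¹ := ⟨_, rfl⟩
  have hσd' : σ d' = V ([2, 1, 6, 5, 4, 1, 2] ++ [3] ++ [2, 1, 4, 5, 6, 1, 2]) :=
    hd' ▸ map_conj σ (by decide) hh hd₀
  have hd'' : d' * d' = s := hd' ▸ hsq h
  obtain ⟨β, hβ, he⟩ := J2Mult70.exists_eq_mul σ hc (x := d₀ * d') (y := d' * d₀)
    (by rw [map_mul, map_mul, hd₀, hσd', ← V_append, ← V_append]; exact word_eq (by decide +kernel))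
  have hββ : β * β = 1 := by
    have h1 : d₀ * d₀ * d' = d' * (d₀ * d₀) * (β * β) := by
      calc d₀ * d₀ * d' = d₀ * (d₀ * d') := mul_assoc _ _ _
        _ = d₀ * (d' * d₀ * β) := by rw [he]
        _ = d₀ * d' * (d₀ * β) := by group
        _ = d' * d₀ * (β * d₀) * β := by rw [he]; group
        _ = _ := by rw [(cen σ hc hβ d₀).eq]; group
    rw [← hs, (cen σ hc hσs d').eq] at h1
    exact (mul_left_cancel (a := d' * s) (by rw [mul_one]; exact h1)).symm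
  obtain ⟨k, hk, hz⟩ := J2Mult70.exists_eq_mul σ hc (x := d₀ * d') (y := w * d₀ * w⁻¹)
    (by rw [map_mul, map_conj σ (by decide) hw hd₀, hd₀, hσd', ← V_append]
        exact word_eq (by decide +kernel))
  have hz2 : d₀ * d' * (d₀ * d') = s * (k * k) := by rw [hz, sq_mul_cen σ hc hk, hsq w]
  have hz3 : d₀ * d' * (d₀ * d') = s * (s * β) := by
    nth_rw 2 [he]
    calc d₀ * d' * (d' * d₀ * β) = d₀ * (d' * d') * d₀ * β := by group
      _ = s * (d₀ * d₀) * β := by rw [hd'', ← (cen σ hc hσs d₀).eq]; group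
      _ = _ := by rw [← hs, mul_assoc]
  have hkk : k * k = s * β := mul_left_cancel (hz2.symm.trans hz3)
  have hσk : σ k⁻¹ = 1 := by rw [map_inv, hk, inv_one]
  obtain ⟨d, hd⟩ : ∃ d, d = d₀ * k⁻¹ := ⟨_, rfl⟩
  have hσd : σ d = V [3] := by rw [hd, map_mul, hσk, mul_one, hd₀]
  have hdd : d * d = β := by
    rw [hd, sq_mul_cen σ hc hσk, ← hs, show k⁻¹ * k⁻¹ = (k * k)⁻¹ by group, hkk,
      mul_inv_rev, (cen σ hc hβ s⁻¹).inv_left.eq, mul_inv_cancel_left]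
    exact inv_eq_of_mul_eq_one_right hββ
  obtain ⟨u, hu⟩ := hσ (V [3, 4])
  obtain ⟨e₀, he₀⟩ : ∃ e₀, e₀ = u * d * u⁻¹ := ⟨_, rfl⟩
  have hσe₀ : σ e₀ = V [4] := by
    rw [he₀, map_conj σ (by decide) hu hσd]; exact word_eq (by decide +kernel)
  have hee₀ : e₀ * e₀ = β := by
    rw [he₀, show u * d * u⁻¹ * (u * d * u⁻¹) = u * (d * d) * u⁻¹ by group, hdd,
      ← (cen σ hc hβ u).eq, mul_inv_cancel_right]
  have hk₂ : σ ((d * e₀) ^ 3) = 1 := by
    rw [map_pow, map_mul, hσd, hσe₀, ← V_append, V_pow]; exact word_eq (W := []) (by decide +kernel)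
  obtain ⟨r, hr⟩ : ∃ r, r = (d * e₀) ^ 3 := ⟨_, rfl⟩
  rw [← hr] at hk₂
  have hi : (d * e₀)⁻¹ = e₀ * d := inv_eq_of_mul_eq_one_right (by
    calc d * e₀ * (e₀ * d) = d * (e₀ * e₀) * d := by group
      _ = β * (d * d) := by rw [hee₀, ← (cen σ hc hβ d).eq, mul_assoc]
      _ = 1 := by rw [hdd, hββ])
  have hconj : d * (d * e₀) * d⁻¹ = (d * e₀)⁻¹ :=
    calc d * (d * e₀) * d⁻¹ = d * d * e₀ * d⁻¹ := by group
      _ = e₀ * (d * d) * d⁻¹ := by rw [hdd, (cen σ hc hβ e₀).eq]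
      _ = (d * e₀)⁻¹ := by rw [hi]; group
  have hrr : r * r = 1 := by
    have : d * r * d⁻¹ = r⁻¹ := by rw [hr, ← conj_pow, hconj, inv_pow]
    rw [← (cen σ hc hk₂ d).eq, mul_inv_cancel_right] at this
    nth_rw 2 [this]
    exact mul_inv_cancel r
  refine ⟨d, e₀ * r, β, hσd, by rw [map_mul, hk₂, mul_one, hσe₀], hβ, hββ, hdd, ?_, ?_⟩
  · rw [sq_mul_cen σ hc hk₂, hee₀, hrr, mul_one]
  · rw [← mul_assoc, J2Mult70.central_pow_mul σ hc hk₂, ← hr, pow_succ r, sq, hrr, one_mul, hrr]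

theorem cd_four {a c d f g s : E} (hσa : σ a = V [0]) (hσc : σ c = V [2]) (hσd : σ d = V [3])
    (hσf : σ f = V [5]) (hσg : σ g = V [6]) (hσs : σ s = 1) (hss : s * s = 1) (hdd : d * d = s)
    (hcc : c * c = 1) (hff : f * f = 1) (hgg : g * g = 1)
    (hfg : a = (f * g) ^ 2) : (c * d) ^ 4 = a := by
  obtain ⟨p, hp⟩ := hσ (V (sqProd Data.sqP))
  have hap : Commute a p :=
    commute_sqProd σ hσ hc (by decide +kernel) hσa Data.sqP (by decide +kernel) p hp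
  obtain ⟨k, hk, hg'⟩ := J2Mult70.exists_eq_mul σ hc (x := p * g * p⁻¹) (y := c)
    (by rw [map_conj σ (by decide +kernel) hp hσg, hσc]; exact word_eq (by decide +kernel))
  obtain ⟨j, hj, hf'⟩ := J2Mult70.exists_eq_mul σ hc (x := p * f * p⁻¹) (y := d * c * d⁻¹)
    (by rw [map_conj σ (by decide +kernel) hp hσf, map_conj σ (P := [3]) rfl hσd hσc]
        exact word_eq (by decide +kernel))
  have hsq : ∀ {u x : E}, x * x = 1 → u * x * u⁻¹ * (u * x * u⁻¹) = 1 := fun {u x} hx =>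
    calc u * x * u⁻¹ * (u * x * u⁻¹) = u * (x * x) * u⁻¹ := by group
      _ = 1 := by rw [hx]; group
  have hkk : k * k = 1 := by
    have := hsq (u := p) hgg
    rwa [hg', sq_mul_cen σ hc hk, hcc, one_mul] at this
  have hjj : j * j = 1 := by
    have := hsq (u := p) hff
    rwa [hf', sq_mul_cen σ hc hj, hsq hcc, one_mul] at this
  have hσjk : σ (j * k) = 1 := by rw [map_mul, hj, hk, one_mul]
  have h1 : (d * c * d⁻¹ * c) ^ 2 = a := by
    calc (d * c * d⁻¹ * c) ^ 2 = (d * c * d⁻¹ * c * (j * k)) ^ 2 := by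
          rw [J2Mult70.central_pow_mul σ hc hσjk, sq (j * k),
            (cen σ hc hk j).mul_mul_mul_comm j k, hjj, hkk, one_mul, mul_one]
      _ = (p * f * p⁻¹ * (p * g * p⁻¹)) ^ 2 := by
          rw [hf', hg', (cen σ hc hj c).mul_mul_mul_comm (d * c * d⁻¹) k]
      _ = p * (f * g) ^ 2 * p⁻¹ := by
          rw [← conj_pow]; congr 1; group
      _ = a := by rw [← hfg, ← hap.eq, mul_inv_cancel_right]
  have hdi : d⁻¹ = d * s := inv_eq_of_mul_eq_one_right (by rw [← mul_assoc, hdd, hss])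
  have h2 : d * c * d⁻¹ * c = d * c * d * c * s := by
    rw [hdi, show d * c * (d * s) * c = d * c * d * (s * c) by group, (cen σ hc hσs c).eq]
    group
  rw [h2, J2Mult70.central_pow_mul σ hc hσs, sq s, hss, mul_one] at h1
  have hci : c⁻¹ = c := inv_eq_of_mul_eq_one_right hcc
  calc (c * d) ^ 4 = c * ((d * c) ^ 4) * c⁻¹ := by rw [← conj_pow]; congr 1; group
    _ = c * ((d * c * d * c) ^ 2) * c⁻¹ := by
      rw [show d * c * d * c = (d * c) ^ 2 by rw [sq]; group, ← pow_mul]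
    _ = a := by
      rw [h1, (comm_ac σ hσ hc c a hσc hσa).eq, mul_inv_cancel_right]

/-- The conclusion of the normalisation. -/
structure Good (s : E) (v : Cfsg.Spor.Suz.Gen → E) : Prop where
  map : ∀ x, σ (v x) = (PresentedGroup.of x : G)
  map_s : σ s = 1
  sq_s : s * s = 1
  sq : v .a * v .a = 1 ∧ v .b * v .b = 1 ∧ v .c * v .c = 1 ∧ v .d * v .d = s ∧ v .e * v .e = s ∧
    v .f * v .f = 1 ∧ v .g * v .g = 1
  edge : (v .a * v .b) ^ 5 = 1 ∧ (v .b * v .c) ^ 3 = 1 ∧ (v .d * v .e) ^ 3 = 1 ∧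
    (v .b * v .f) ^ 3 = 1 ∧ (v .g * v .b) ^ 3 = 1
  fg : (v .f * v .g) ^ 2 = v .a
  cd : (v .c * v .d) ^ 4 = v .a
  prel : ((v .b * v .c * v .d * v .c * v .d) ^ 5 * v .e) ^ 3 = 1

end Cfsg.Agent.T51.SuzMult
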