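import Cfsg.Agent.SporB.Suz.Main
import Cfsg.Agent.T51.SuzMult.Data

/-!
# Word identities in `Suz`

Equalities of words are read off the permutation representation on 1782 points.
-/

set_option autoImplicit false
set_option maxRecDepth 100000

namespace Cfsg.Agent.T51.SuzMult

open Cfsg.Agent.CosetEnum

/-- The presented group. -/
abbrev G : Type := Suz.pres.Gp

/-- The image of a word. -/
abbrev V (W : List ℕ) : G := evalWord Suz.pres.val W

/-- Both words act in the same way. -/
noncomputable def sameAction (U W : List ℕ) : Bool :=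
  U.all (fun l => Nat.blt l 7) && W.all (fun l => Nat.blt l 7) &&
    allRange (fun i => Nat.beq (Suz.Rep.tbl.run U i) (Suz.Rep.tbl.run W i)) 0 1782

theorem word_eq {U W : List ℕ} (h : sameAction U W = true) : V U = V W := by
  rw [sameAction, Bool.and_eq_true, Bool.and_eq_true, List.all_eq_true, List.all_eq_true] at h
  obtain ⟨⟨hU, hW⟩, hR⟩ := h
  have hU' : ∀ l ∈ U, l < Suz.Rep.tbl.nl := fun l hl => Nat.le_of_ble_eq_true (hU l hl)
  have hW' : ∀ l ∈ W, l < Suz.Rep.tbl.nl := fun l hl => Nat.le_of_ble_eq_true (hW l hl)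
  apply Suz.card_eq.2
  apply inv_injective
  refine Equiv.ext fun i => Fin.ext ?_
  rw [Suz.rep.hom_inv_apply Suz.nodup hU', Suz.rep.hom_inv_apply Suz.nodup hW']
  exact Nat.eq_of_beq_eq_true (allRange_spec hR i.val (Nat.zero_le _)
    (by simpa [Suz.Rep.tbl] using i.2))

theorem V_append (U W : List ℕ) : V (U ++ W) = V U * V W := evalWord_append _ _ _

theorem V_pow (U : List ℕ) (n : ℕ) : V U ^ n = V (repWord U n) := (evalWord_repWord _ _ _).symm

theorem V_nil : V [] = 1 := rfl

theorem V_reverse (U : List ℕ) (h : U.all (fun l => Nat.blt l 7) = true) :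
    V U.reverse = (V U)⁻¹ := by
  induction U with
  | nil => simp [V, evalWord]
  | cons l ls ih =>
    rw [List.all_cons, Bool.and_eq_true] at h
    have hl : l < Suz.pres.gens.length := Nat.le_of_ble_eq_true h.1
    have hsq : Suz.pres.val l * Suz.pres.val l = 1 := by
      rw [InvPres.val, letterVal_of_lt _ _ hl]; exact Suz.pres.sq_val _
    rw [List.reverse_cons, V_append, ih h.2]
    simp [V, evalWord, inv_eq_of_mul_eq_one_right hsq]

/-- The product of the squares of some words. -/
def sqProd (L : List (List ℕ)) : List ℕ := L.flatMap fun U => U ++ U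

theorem sqProd_cons (U : List ℕ) (L : List (List ℕ)) : sqProd (U :: L) = U ++ U ++ sqProd L := by
  simp [sqProd]

end Cfsg.Agent.T51.SuzMult
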